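import Cfsg.Agent.Lib.ThreePrime.Lin
import Cfsg.Agent.Lib.Codegree.Basic

/-!
The case of a nonabelian normal Sylow `p`-subgroup with elementary central derived subgroup.

* `CSetup`, `CSetup.false_of`
-/

set_option autoImplicit false
set_option linter.style.haveILetI false
set_option linter.unusedSectionVars false

namespace Cfsg.Agent.ThreePrime

open Cfsg Cfsg.Agent.Char
open scoped commutatorElement

variable {G : Type*} [Group G] [Finite G]

/-- The hypotheses. -/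
structure CSetup (P V H : Subgroup G) (p : ℕ) : Prop where
  Pn : P.Normal
  Vn : V.Normal
  pP : IsPGroup p P
  compl : Subgroup.IsComplement' P H
  cop : (Nat.card P).Coprime (Nat.card H)
  der : ⁅P, P⁆ = V
  central : ∀ v ∈ V, ∀ x ∈ P, v * x = x * v
  Vexp : ∀ v ∈ V, v ^ p = 1
  Vne : V ≠ ⊥

namespace CSetup


variable {P V H : Subgroup G} {p : ℕ} [hp : Fact p.Prime] (S : CSetup P V H p)
include S

theorem V_le : V ≤ P := S.der ▸ Subgroup.commutator_le_self P

theorem Vc : ∀ a ∈ V, ∀ b ∈ V, a * b = b * a := fun a ha b hb => S.central a ha b (S.V_le hb)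

theorem dvd_index_of_degree [Group.IsSolvable G] {s : ℕ}
    (hd : ∃ χ : IrrCharacter G, s ∣ charDegree (χ : G → ℂ)) (A : Subgroup G) [A.Normal]
    (hA : ∀ a ∈ A, ∀ b ∈ A, a * b = b * a) : s ∣ A.index := by
  obtain ⟨χ, hχ⟩ := hd
  obtain ⟨n, -, h1, h2⟩ := Ito.exists_degree_dvd_index χ.2 A hA
  rw [CharApp.DegreeSets.apply_one χ.2, Nat.cast_inj] at h1
  exact hχ.trans (h1 ▸ h2)

/-- The linear stabilisers on the derived subgroup, through a nonlinear character above. -/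
theorem exists_above [Group.IsSolvable G] :
    haveI := S.Vn; haveI := S.Pn
    ∀ μ : V →* ℂˣ, μ ≠ 1 → ∃ θ : P → ℂ, IsIrrCharacter P θ ∧ charDegree θ ≠ 1 ∧
      (CharApp.inertia P θ).subgroupOf H = linStab V H μ := by
  haveI := S.Vn; haveI := S.Pn
  intro μ hμ
  classical
  haveI := Fintype.ofFinite G
  haveI := Fintype.ofFinite P
  haveI := Fintype.ofFinite V
  haveI : (V.subgroupOf P).Normal := S.Vn.subgroupOf P
  set M : Subgroup G := (linStab V H μ).map H.subtype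
  have hμ' : IsIrrCharacter V (fun x : V => ((μ x : ℂˣ) : ℂ)) :=
    isIrrCharacter_of_hom ((Units.coeHom ℂ).comp μ)
  have hinv : ∀ s ∈ M, ∀ g g' : V, (g' : G) = s * g * s⁻¹ →
      ((μ g' : ℂˣ) : ℂ) = ((μ g : ℂˣ) : ℂ) := by
    rintro _ ⟨h, hh, rfl⟩ g g' hgg'
    rw [← (mem_linStab V H μ h).1 hh g']
    congr 2
    refine Subtype.ext ?_
    show (h : G)⁻¹ * g' * h = g
    rw [hgg']; simp [mul_assoc]
  have hcop : (V.relIndex P).Coprime (Nat.card M) := by
    refine (S.cop.coprime_dvd_left (Subgroup.index_dvd_card _)).coprime_dvd_right ?_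
    rw [Subgroup.card_map_of_injective H.subtype_injective]
    exact Subgroup.card_subgroup_dvd_card _
  obtain ⟨θ, hover, hfix⟩ := CharApp.exists_invariant_above M V (fun s _ n hn => S.Vn.conj_mem n hn s)
    _ P rfl (fun s _ g hg => S.Pn.conj_mem g hg s) S.V_le hcop inferInstance ⟨_, hμ'⟩ hinv
  refine ⟨(θ : P → ℂ), θ.2, fun h1 => hμ ?_, ?_⟩
  · -- a linear character is trivial on the derived subgroup
    by_contra hne
    refine hover ?_
    have hres : (fun n : V => (θ : P → ℂ) ⟨n, S.V_le n.2⟩) = (1 : V → ℂ) := by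
      funext n
      have hn : (⟨n, S.V_le n.2⟩ : P) ∈ commutator P := by
        have h2 : (n : G) ∈ (commutator P).map P.subtype := by
          rw [P.map_subtype_commutator, S.der]; exact n.2
        obtain ⟨y, hy, hyn⟩ := h2
        exact (Subtype.ext hyn : y = ⟨n, S.V_le n.2⟩) ▸ hy
      rw [CharApp.DegreeSets.apply_commutator_of_linear θ.2 h1 hn, CharApp.DegreeSets.apply_one θ.2, h1,
        Nat.cast_one]
      rfl
    rw [hres]
    exact classInner_irr_of_ne isIrrCharacter_one hμ' fun h => hne (MonoidHom.ext fun x => by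
      have := congrFun h x
      exact Units.ext this.symm)
  -- the restriction is a multiple of `μ`
  have hstab : ∀ x : V, (θ : P → ℂ) ⟨x, S.V_le x.2⟩ = (θ : P → ℂ) 1 * ((μ x : ℂˣ) : ℂ) := by
    intro x
    let e := Subgroup.subgroupOfEquivOfLe S.V_le
    haveI := Fintype.ofFinite (V.subgroupOf P)
    have hθ' := IsIrrCharacter.comp_equiv hμ' e
    have hinv' : ∀ y : P, CliffordChar.conjFun (V.subgroupOf P) y (fun z => ((μ (e z) : ℂˣ) : ℂ)) =
        fun z => ((μ (e z) : ℂˣ) : ℂ) := by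
      intro y
      funext z
      rw [CliffordChar.conjFun_apply]
      congr 2
      refine Subtype.ext ?_
      show (y : G)⁻¹ * (z : G) * y = z
      rw [mul_assoc, S.central z z.2 y y.2, ← mul_assoc, inv_mul_cancel, one_mul]
    have hne : classInner (fun z : V.subgroupOf P => (θ : P → ℂ) z) (fun z => ((μ (e z) : ℂˣ) : ℂ)) ≠ 0 := by
      exact fun h0 => hover (((classInner_comp_equiv e (fun n : V => (θ : P → ℂ) ⟨n, S.V_le n.2⟩)
        (fun n : V => ((μ n : ℂˣ) : ℂ)))).symm.trans h0)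
    have hr := CharApp.restrict_invariant (V.subgroupOf P) θ.2 hθ' hne hinv'
    have h1 := congrFun hr 1
    have hx := congrFun hr (e.symm x)
    simp only [Pi.smul_apply, smul_eq_mul, map_one, Units.val_one, mul_one, OneMemClass.coe_one,
      MulEquiv.apply_symm_apply] at h1 hx
    rw [h1]
    exact hx
  ext h
  rw [Subgroup.mem_subgroupOf]
  constructor
  · intro hh
    rw [mem_linStab]
    intro x
    have h1 := congrFun ((CharApp.mem_inertia P).1 hh) ⟨x, S.V_le x.2⟩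
    rw [CliffordChar.conjFun_apply] at h1
    have h2 := hstab ⟨(h : G)⁻¹ * x * h, by simpa using S.Vn.conj_mem x x.2 (h : G)⁻¹⟩
    refine Units.ext (mul_left_cancel₀ (IsIrrCharacter.apply_one_ne_zero θ.2) ?_)
    rw [← h2, ← hstab x, ← h1]
  · intro hh
    rw [CharApp.mem_inertia_iff]
    intro x
    exact hfix _ ⟨h, hh, rfl⟩ x ⟨_, S.Pn.conj_mem x x.2 h⟩ rfl

theorem p_dvd_degree {θ : P → ℂ} (hθ : IsIrrCharacter P θ) (h1 : charDegree θ ≠ 1) :
    p ∣ charDegree θ := by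
  haveI := Fintype.ofFinite P
  obtain ⟨n, -, hn, hdvd⟩ := IsIrrCharacter.degree_dvd_card hθ
  rw [CharApp.DegreeSets.apply_one hθ, Nat.cast_inj] at hn
  obtain ⟨k, hk⟩ := S.pP.exists_card_eq
  rw [← hn, hk] at hdvd
  obtain ⟨i, -, hi⟩ := (Nat.dvd_prime_pow hp.out).1 hdvd
  rw [hi]
  exact dvd_pow_self p fun h0 => h1 (by rw [hi, h0, pow_zero])

section primes

variable [Group.IsSolvable G] {q : ℕ} [hq : Fact q.Prime] (hpq : p ≠ q)
  (hnopq : ∀ χ : IrrCharacter G, ¬ p * q ∣ charDegree (χ : G → ℂ))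
include hpq hnopq

theorem good_of_nonlinear :
    haveI := S.Pn
    ∀ θ : P → ℂ, IsIrrCharacter P θ → charDegree θ ≠ 1 →
      Good q ((CharApp.inertia P θ).subgroupOf H) := by
  haveI := S.Pn
  intro θ hθ h1
  exact good_inertia S.compl hθ (extends_coprime S.compl hθ S.cop) hp.out hq.out hpq hnopq
    (dvd_mul_of_dvd_right (S.p_dvd_degree hθ h1) _)

theorem good_lin :
    haveI := S.Vn
    ∀ μ : V →* ℂˣ, μ ≠ 1 → Good q (linStab V H μ) := by
  haveI := S.Vn; haveI := S.Pn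
  intro μ hμ
  obtain ⟨θ, hθ, h1, heq⟩ := S.exists_above μ hμ
  exact heq ▸ S.good_of_nonlinear hpq hnopq θ hθ h1

theorem exists_mu : haveI := S.Vn; ∃ μ : V →* ℂˣ, μ ≠ 1 := by
  haveI := S.Vn
  haveI : Nontrivial V := (Subgroup.nontrivial_iff_ne_bot V).2 S.Vne
  obtain ⟨x, hx⟩ := exists_ne (1 : V)
  by_contra hno
  push Not at hno
  exact hx (dual_sep S.Vc fun μ => by rw [hno μ]; rfl)

/-- A normal Sylow subgroup lies in every stabiliser. -/
theorem normal_le (Q : Sylow q H) [hQn : (Q : Subgroup H).Normal] :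
    haveI := S.Vn
    ∀ μ : V →* ℂˣ, (Q : Subgroup H) ≤ linStab V H μ := by
  haveI := S.Vn
  intro μ
  by_cases hμ : μ = 1
  · subst hμ
    exact fun h _ => (mem_linStab V H 1 h).2 fun x => rfl
  obtain ⟨Q', hQ', -, -⟩ := S.good_lin hpq hnopq μ hμ
  haveI := Sylow.unique_of_normal Q hQn
  rwa [Subsingleton.elim Q Q']

theorem commute_V (Q : Sylow q H) [hQn : (Q : Subgroup H).Normal] {h : H}
    (hh : h ∈ (Q : Subgroup H)) {v : G} (hv : v ∈ V) : (h : G) * v = v * h := by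
  haveI := S.Vn
  have h1 : (⟨(h : G)⁻¹ * v * h, by simpa using S.Vn.conj_mem v hv (h : G)⁻¹⟩ : V) * (⟨v, hv⟩ : V)⁻¹ = 1 :=
    dual_sep S.Vc fun μ => by
      rw [map_mul, map_inv, mul_inv_eq_one]
      exact (mem_linStab V H μ h).1 (S.normal_le hpq hnopq Q μ hh) ⟨v, hv⟩
  rw [mul_inv_eq_one] at h1
  have h2 : (h : G)⁻¹ * v * h = v := congrArg Subtype.val h1
  calc (h : G) * v = h * ((h : G)⁻¹ * v * h) := by rw [h2]
    _ = v * h := by group

/-- A normal Sylow `q`-subgroup of the complement moves `P` modulo `V`. -/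
theorem exists_moved (hqd : ∃ χ : IrrCharacter G, q ∣ charDegree (χ : G → ℂ)) (Q : Sylow q H)
    [hQn : (Q : Subgroup H).Normal] :
    ∃ h ∈ (Q : Subgroup H), ∃ w ∈ P, w⁻¹ * ((h : G) * w * (h : G)⁻¹) ∉ V := by
  by_contra hno
  push Not at hno
  have hcP : ∀ h ∈ (Q : Subgroup H), ∀ w ∈ P, (h : G) * w * (h : G)⁻¹ = w := by
    intro h hh w hw
    obtain ⟨k, hk⟩ := Q.2 ⟨h, hh⟩
    have hk' : (h : G) ^ q ^ k = 1 := congrArg (fun z : (Q : Subgroup H) => ((z : H) : G)) hk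
    have hd := hno h hh w hw
    have := eq_one_of_step (g := (h : G)) (x := w) (d := w⁻¹ * ((h : G) * w * (h : G)⁻¹))
      (by group) (mul_inv_eq_iff_eq_mul.2 (S.commute_V hpq hnopq Q hh hd)) hk'
      (S.Vexp _ hd) (((Nat.coprime_primes hq.out hp.out).2 (Ne.symm hpq)).pow_left k)
    rwa [inv_mul_eq_one, eq_comm] at this
  haveI := S.Pn
  set A := (Q : Subgroup H).map H.subtype with hA
  haveI hAn : A.Normal := by
    refine ⟨fun a ha g => ?_⟩
    obtain ⟨h, hh, rfl⟩ := ha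
    obtain ⟨⟨x, y⟩, rfl, -⟩ := S.compl.existsUnique g
    have h2 : y * h * y⁻¹ ∈ (Q : Subgroup H) := hQn.conj_mem h hh y
    refine ⟨y * h * y⁻¹, h2, ?_⟩
    have h3 := hcP _ h2 x x.2
    rw [mul_inv_eq_iff_eq_mul] at h3
    show ((y * h * y⁻¹ : H) : G) = (x : G) * y * (h : G) * ((x : G) * y)⁻¹
    calc ((y * h * y⁻¹ : H) : G) = ((y * h * y⁻¹ : H) : G) * x * (x : G)⁻¹ := by group
      _ = x * ((y * h * y⁻¹ : H) : G) * (x : G)⁻¹ := by rw [h3]
      _ = (x : G) * y * (h : G) * ((x : G) * y)⁻¹ := by push_cast; group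
  obtain ⟨μ, hμ⟩ := S.exists_mu hpq hnopq
  haveI := S.Vn
  have hgood := S.good_lin hpq hnopq μ hμ
  have hAc : ∀ a ∈ A, ∀ b ∈ A, a * b = b * a := by
    rintro _ ⟨a, ha, rfl⟩ _ ⟨b, hb, rfl⟩
    rw [← map_mul, ← map_mul, hgood.comm (S.normal_le hpq hnopq Q μ) ha hb]
  have hidx := S.dvd_index_of_degree hqd A hAc
  rw [hA, Subgroup.index_map_subtype, hq.out.dvd_mul] at hidx
  rcases hidx with h | h
  · exact Q.not_dvd_index h
  · rw [S.compl.index_eq_card] at h
    obtain ⟨k, hk⟩ := S.pP.exists_card_eq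
    rw [hk] at h
    exact hpq ((Nat.prime_dvd_prime_iff_eq hq.out hp.out).1 (hq.out.dvd_of_dvd_pow h)).symm

end primes

/-- Both normal. -/
theorem false_of_normal [Group.IsSolvable G] {q r : ℕ} [hq : Fact q.Prime] [hr : Fact r.Prime]
    (hpq : p ≠ q) (hpr : p ≠ r) (hqr : q ≠ r)
    (hnopq : ∀ χ : IrrCharacter G, ¬ p * q ∣ charDegree (χ : G → ℂ))
    (hnopr : ∀ χ : IrrCharacter G, ¬ p * r ∣ charDegree (χ : G → ℂ))
    (hnoqr : ∀ χ : IrrCharacter G, ¬ q * r ∣ charDegree (χ : G → ℂ))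
    (hqd : ∃ χ : IrrCharacter G, q ∣ charDegree (χ : G → ℂ))
    (hrd : ∃ χ : IrrCharacter G, r ∣ charDegree (χ : G → ℂ)) (Q : Sylow q H) (R : Sylow r H)
    [hQn : (Q : Subgroup H).Normal] [hRn : (R : Subgroup H).Normal] : False := by
  haveI := S.Pn
  have hne : ∀ {K : Subgroup H}, (∃ h ∈ K, ∃ w ∈ P, w⁻¹ * ((h : G) * w * (h : G)⁻¹) ∉ V) →
      ∃ l : P →* ℂˣ, l ∉ linFix P H K := by
    rintro K ⟨h, hh, w, hw, hwv⟩
    have hd : w⁻¹ * ((h : G) * w * (h : G)⁻¹) ∈ P := mul_mem (inv_mem hw) (S.Pn.conj_mem w hw h)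
    obtain ⟨l, hl⟩ := exists_lin_ne_one hd (S.der ▸ hwv)
    refine ⟨l, fun hfix => hl ?_⟩
    have h1 := (mem_linStab P H l h).1 (hfix hh) ⟨(h : G) * w * (h : G)⁻¹, S.Pn.conj_mem w hw h⟩
    rw [show (⟨_, hd⟩ : P) = (⟨w, hw⟩ : P)⁻¹ * ⟨(h : G) * w * (h : G)⁻¹, S.Pn.conj_mem w hw h⟩ from rfl,
      map_mul, map_inv, inv_mul_eq_one, ← h1]
    congr 1
    exact Subtype.ext (by simp [mul_assoc])
  obtain ⟨l₁, h1⟩ := hne (S.exists_moved hpq hnopq hqd Q)
  obtain ⟨l₂, h2⟩ := hne (S.exists_moved hpr hnopr hrd R)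
  obtain ⟨l, hlQ, hlR⟩ : ∃ l, l ∉ linFix P H (Q : Subgroup H) ∧ l ∉ linFix P H (R : Subgroup H) := by
    by_cases ha : l₁ ∈ linFix P H (R : Subgroup H)
    · by_cases hb : l₂ ∈ linFix P H (Q : Subgroup H)
      · exact ⟨l₁ * l₂, fun h => h1 ((Subgroup.mul_mem_cancel_right _ hb).1 h),
          fun h => h2 ((Subgroup.mul_mem_cancel_left _ ha).1 h)⟩
      · exact ⟨l₂, hb, h2⟩
    · exact ⟨l₁, h1, ha⟩
  set K := (CharApp.inertia P (fun x : P => ((l x : ℂˣ) : ℂ))).subgroupOf H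
  have hdvd : ∀ {s : ℕ} [Fact s.Prime] (T : Sylow s H), (T : Subgroup H).Normal →
      l ∉ linFix P H (T : Subgroup H) → s ∣ K.index := by
    intro s _ T hTn hT
    by_contra hd
    obtain ⟨T0⟩ : Nonempty (Sylow s K) := inferInstance
    have hidx : ¬ s ∣ ((T0 : Subgroup K).map K.subtype).index := by
      rw [Subgroup.index_map_subtype]
      exact (Fact.out : s.Prime).not_dvd_mul T0.not_dvd_index hd
    haveI := Sylow.unique_of_normal T hTn
    have := Subsingleton.elim T ((T0.2.map K.subtype).toSylow hidx)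
    apply hT
    rw [mem_linFix, linStab_eq, this, IsPGroup.toSylow_coe]
    exact Subgroup.map_subtype_le _
  obtain ⟨χ, hχ⟩ := exists_degree_split S.compl
    (isIrrCharacter_of_hom ((Units.coeHom ℂ).comp l)) (extends_hom S.compl ((Units.coeHom ℂ).comp l))
    ⟨1, isIrrCharacter_one⟩
  refine hnoqr χ ?_
  rw [hχ]
  exact dvd_mul_of_dvd_left (((Nat.coprime_primes hq.out hr.out).2 hqr).mul_dvd_of_dvd_of_dvd
    (hdvd Q hQn hlQ) (hdvd R hRn hlR)) _

/-- Exactly one normal: there is no room. -/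
theorem false_of_one_normal [Group.IsSolvable G] {q r : ℕ} [hq : Fact q.Prime] [hr : Fact r.Prime]
    (hpq : p ≠ q) (hpr : p ≠ r) (hqr : q ≠ r)
    (hnopq : ∀ χ : IrrCharacter G, ¬ p * q ∣ charDegree (χ : G → ℂ))
    (hnopr : ∀ χ : IrrCharacter G, ¬ p * r ∣ charDegree (χ : G → ℂ))
    (hnoqr : ∀ χ : IrrCharacter G, ¬ q * r ∣ charDegree (χ : G → ℂ))
    (hqd : ∃ χ : IrrCharacter G, q ∣ charDegree (χ : G → ℂ)) (Q : Sylow q H) (R : Sylow r H)
    [hQn : (Q : Subgroup H).Normal] (hRn : ¬ (R : Subgroup H).Normal) : False := by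
  classical
  haveI := S.Pn; haveI := S.Vn
  haveI := Fintype.ofFinite G
  haveI := Fintype.ofFinite P
  haveI := Fintype.ofFinite (IrrCharacter P)
  obtain ⟨h, hh, w, hw, hwv⟩ := S.exists_moved hpq hnopq hqd Q
  -- `h` fixes no commutator modulo `V`
  have L1 : ∀ g ∈ (Q : Subgroup H), ∀ y ∈ P,
      (y⁻¹ * ((g : G) * y * (g : G)⁻¹))⁻¹ *
        ((g : G) * (y⁻¹ * ((g : G) * y * (g : G)⁻¹)) * (g : G)⁻¹) ∈ V →
      y⁻¹ * ((g : G) * y * (g : G)⁻¹) ∈ V := by
    intro g hg y hy hfix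
    obtain ⟨k, hk⟩ := Q.2 ⟨g, hg⟩
    have hk' : (g : G) ^ q ^ k = 1 := congrArg (fun z : (Q : Subgroup H) => ((z : H) : G)) hk
    obtain ⟨j, hj⟩ := S.pP ⟨_, mul_mem (inv_mem hy) (S.Pn.conj_mem y hy g)⟩
    rw [← QuotientGroup.eq_one_iff] at hfix ⊢
    set π := QuotientGroup.mk' V
    refine eq_one_of_step (g := π g) (x := π y) (d := π (y⁻¹ * ((g : G) * y * (g : G)⁻¹)))
      (n := p ^ j) ?_ ?_ (by rw [← map_pow, hk', map_one]) ?_
      (((Nat.coprime_primes hq.out hp.out).2 (Ne.symm hpq)).pow k j)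
    · rw [← map_inv, ← map_mul, ← map_mul, ← map_mul]; congr 1; group
    · have h' : π ((y⁻¹ * ((g : G) * y * (g : G)⁻¹))⁻¹ *
          ((g : G) * (y⁻¹ * ((g : G) * y * (g : G)⁻¹)) * (g : G)⁻¹)) = 1 := hfix
      rw [map_mul, map_inv, inv_mul_eq_one] at h'
      rw [← map_inv, ← map_mul, ← map_mul, ← h']
    · rw [← map_pow, show (y⁻¹ * ((g : G) * y * (g : G)⁻¹)) ^ p ^ j = 1 from congrArg Subtype.val hj,
        map_one]
  set z := w⁻¹ * ((h : G) * w * (h : G)⁻¹) with hz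
  have hzP : z ∈ P := mul_mem (inv_mem hw) (S.Pn.conj_mem w hw h)
  have hzm : z⁻¹ * ((h : G) * z * (h : G)⁻¹) ∉ V := fun h0 => hwv (L1 h hh w hw h0)
  have hh' : h⁻¹ ∈ (Q : Subgroup H) := inv_mem hh
  set u := z⁻¹ * ((h : G)⁻¹ * z * h) with hu
  have huP : u ∈ P := mul_mem (inv_mem hzP) (by simpa using S.Pn.conj_mem z hzP (h : G)⁻¹)
  have hum : u⁻¹ * ((h : G) * u * (h : G)⁻¹) ∉ V := by
    intro h0
    apply hzm
    have h2 : u⁻¹ * (((h⁻¹ : H) : G) * u * ((h⁻¹ : H) : G)⁻¹) ∈ V := by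
      have := S.Vn.conj_mem _ (inv_mem h0) (h : G)⁻¹
      simpa [mul_assoc] using this
    have h3 := L1 h⁻¹ hh' z hzP (by simpa [hu, mul_assoc] using h2)
    have h4 := S.Vn.conj_mem _ (inv_mem h3) (h : G)
    simpa [mul_assoc] using h4
  -- commutation with an element outside the fixed part is onto `V`
  have hfixθ : ∀ θ : P → ℂ, IsIrrCharacter P θ → charDegree θ ≠ 1 →
      (Q : Subgroup H) ≤ (CharApp.inertia P θ).subgroupOf H := by
    intro θ hθ h1
    obtain ⟨Q', hQ', -, -⟩ := S.good_of_nonlinear hpq hnopq θ hθ h1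
    haveI := Sylow.unique_of_normal Q hQn
    rwa [Subsingleton.elim Q Q']
  have hsurj : ∀ x : G, ∀ hx : x ∈ P, x⁻¹ * ((h : G) * x * (h : G)⁻¹) ∉ V →
      ∀ v ∈ V, ∃ y ∈ P, x * y * x⁻¹ * y⁻¹ = v := by
    intro x hx hxm
    have hvan : ∀ θ : IrrCharacter P, charDegree (θ : P → ℂ) ≠ 1 → (θ : P → ℂ) ⟨x, hx⟩ = 0 := by
      intro θ h1
      by_contra hne
      have hd : x⁻¹ * ((h : G) * x * (h : G)⁻¹) ∈ P := mul_mem (inv_mem hx) (S.Pn.conj_mem x hx h)
      obtain ⟨l, hl⟩ := exists_lin_ne_one hd (S.der ▸ hxm)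
      apply hl
      have hirr : IsIrrCharacter P ((θ : P → ℂ) * (((Units.coeHom ℂ).comp l : P →* ℂ) : P → ℂ)) :=
        IsIrrCharacter.mul_linear θ.2 _
      have h2 : charDegree ((θ : P → ℂ) * (((Units.coeHom ℂ).comp l : P →* ℂ) : P → ℂ)) ≠ 1 := by
        intro h3
        apply h1
        have h4 := CharApp.DegreeSets.apply_one hirr
        rw [Pi.mul_apply, map_one, mul_one, CharApp.DegreeSets.apply_one θ.2, h3, Nat.cast_inj] at h4
        exact h4
      have ha := (CharApp.mem_inertia_iff P).1 (hfixθ _ θ.2 h1 hh) ⟨x, hx⟩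
      have hb := (CharApp.mem_inertia_iff P).1 (hfixθ _ hirr h2 hh) ⟨x, hx⟩
      simp only [Pi.mul_apply] at hb
      rw [ha] at hb
      have hc := Units.ext (mul_left_cancel₀ hne hb)
      rw [show (⟨_, hd⟩ : P) = (⟨x, hx⟩ : P)⁻¹ * ⟨(h : G) * x * (h : G)⁻¹, S.Pn.conj_mem x hx h⟩
        from rfl, map_mul, map_inv, inv_mul_eq_one]
      exact hc.symm
    have hcard := column_orth (⟨x, hx⟩ : P) (⟨x, hx⟩ : P)
    rw [if_pos (IsConj.refl _), ← Finset.sum_subset (Finset.subset_univ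
      (Finset.univ.filter fun θ : IrrCharacter P => (θ : P → ℂ) 1 = 1))
      (fun θ _ hθ => by
        rw [hvan θ (fun h1 => hθ (Finset.mem_filter.2 ⟨Finset.mem_univ _, by
          rw [CharApp.DegreeSets.apply_one θ.2, h1, Nat.cast_one]⟩)), zero_mul]),
      ] at hcard
    rw [Finset.sum_congr rfl (g := fun _ => (1 : ℂ)) (fun θ hθ => by
        obtain ⟨l, hl⟩ := exists_hom_of_degree_one (IsIrrCharacter.isCharacter θ.2)
          (Finset.mem_filter.1 hθ).2
        rw [← hl, Complex.mul_conj', Complex.norm_eq_one_of_pow_eq_one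
          (by rw [← map_pow, pow_orderOf_eq_one, map_one]) (orderOf_pos (⟨x, hx⟩ : P)).ne']
        simp),
      Finset.sum_const, nsmul_eq_mul, mul_one, Nat.cast_inj] at hcard
    have hlin : (Finset.univ.filter fun θ : IrrCharacter P => (θ : P → ℂ) 1 = 1).card =
        (commutator P).index := by
      rw [← card_linear_irr (G := P), Nat.card_eq_fintype_card, Fintype.card_subtype]
    rw [hlin] at hcard
    let c : P →* V :=
      { toFun := fun y => ⟨x * y * x⁻¹ * (y : G)⁻¹, S.der ▸ Subgroup.commutator_mem_commutator hx y.2⟩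
        map_one' := Subtype.ext (by simp)
        map_mul' := fun y y' => Subtype.ext (by
          have hc : x * (y' : G) * x⁻¹ * (y' : G)⁻¹ ∈ V :=
            S.der ▸ Subgroup.commutator_mem_commutator hx y'.2
          have h5 := S.central _ hc (y : G)⁻¹ (inv_mem y.2)
          calc x * ((y * y' : P) : G) * x⁻¹ * ((y * y' : P) : G)⁻¹
              = (x * y * x⁻¹) * ((x * (y' : G) * x⁻¹ * (y' : G)⁻¹) * (y : G)⁻¹) := by
                push_cast; group
            _ = (x * y * x⁻¹) * ((y : G)⁻¹ * (x * (y' : G) * x⁻¹ * (y' : G)⁻¹)) := by rw [h5]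
            _ = (x * y * x⁻¹ * (y : G)⁻¹) * (x * (y' : G) * x⁻¹ * (y' : G)⁻¹) := by group) }
    have hker : c.ker = Subgroup.centralizer ({⟨x, hx⟩} : Set P) := by
      ext y
      rw [MonoidHom.mem_ker, Subgroup.mem_centralizer_singleton_iff, Subtype.ext_iff, Subtype.ext_iff]
      show x * y * x⁻¹ * (y : G)⁻¹ = 1 ↔ (y : G) * x = x * y
      rw [mul_inv_eq_one, mul_inv_eq_iff_eq_mul, eq_comm]
    have hidx : c.ker.index = Nat.card (commutator P) := by
      refine Nat.eq_of_mul_eq_mul_right (Nat.card_pos (α := c.ker)) ?_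
      rw [Subgroup.index_mul_card, hker, ← hcard, Subgroup.card_mul_index]
    have hcV : Nat.card (commutator P) = Nat.card V := by
      rw [Nat.card_congr ((commutator P).equivMapOfInjective P.subtype P.subtype_injective).toEquiv,
        P.map_subtype_commutator, S.der]
    rw [Subgroup.index_ker, hcV] at hidx
    have htop : c.range = ⊤ := Subgroup.eq_top_of_card_eq _ hidx
    intro v hv
    obtain ⟨y, hy⟩ := MonoidHom.range_eq_top.1 htop ⟨v, hv⟩
    exact ⟨y, y.2, congrArg Subtype.val hy⟩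
  let cz : P →* V :=
    { toFun := fun y => ⟨z * y * z⁻¹ * (y : G)⁻¹, S.der ▸ Subgroup.commutator_mem_commutator hzP y.2⟩
      map_one' := Subtype.ext (by simp)
      map_mul' := fun y y' => Subtype.ext (by
        have hc : z * (y' : G) * z⁻¹ * (y' : G)⁻¹ ∈ V :=
          S.der ▸ Subgroup.commutator_mem_commutator hzP y'.2
        have h5 := S.central _ hc (y : G)⁻¹ (inv_mem y.2)
        calc z * ((y * y' : P) : G) * z⁻¹ * ((y * y' : P) : G)⁻¹
            = (z * y * z⁻¹) * ((z * (y' : G) * z⁻¹ * (y' : G)⁻¹) * (y : G)⁻¹) := by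
              push_cast; group
          _ = (z * y * z⁻¹) * ((y : G)⁻¹ * (z * (y' : G) * z⁻¹ * (y' : G)⁻¹)) := by rw [h5]
          _ = (z * y * z⁻¹ * (y : G)⁻¹) * (z * (y' : G) * z⁻¹ * (y' : G)⁻¹) := by group) }
  set F := linFix P H (Q : Subgroup H)
  -- `|V| |F| < |Irr(P/V)|`
  let Φ : (V →* ℂˣ) × F →* (P →* ℂˣ) :=
    (MonoidHom.compHom' cz : (V →* ℂˣ) →* (P →* ℂˣ)).coprod F.subtype
  have hczh : ∀ μ : V →* ℂˣ, μ.comp cz ∈ F → μ = 1 := by
    intro μ hμ
    refine MonoidHom.ext fun v => ?_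
    obtain ⟨y, hy, hyv⟩ := hsurj u huP hum v v.2
    have h1 := (mem_linStab P H _ h).1 (hμ hh) ⟨(h : G) * y * (h : G)⁻¹, S.Pn.conj_mem y hy h⟩
    set w' : P := ⟨(h : G) * y * (h : G)⁻¹, S.Pn.conj_mem y hy h⟩
    set y' : P := ⟨y, hy⟩
    have h1' : μ (cz y') = μ (cz w') := by
      refine Eq.trans ?_ h1
      show μ (cz y') = μ (cz _)
      congr 2
      exact Subtype.ext (by simp [w', y', mul_assoc])
    -- compare the two values
    have e1 : cz w' = v * cz y' := by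
      refine Subtype.ext ?_
      show z * ((h : G) * y * (h : G)⁻¹) * z⁻¹ * ((h : G) * y * (h : G)⁻¹)⁻¹ = v * (z * y * z⁻¹ * y⁻¹)
      have hcy : z * y * z⁻¹ * y⁻¹ ∈ V := S.der ▸ Subgroup.commutator_mem_commutator hzP hy
      have key : (h : G)⁻¹ * z * h * y * ((h : G)⁻¹ * z * h)⁻¹ * y⁻¹ = v * (z * y * z⁻¹ * y⁻¹) := by
        have hzu : (h : G)⁻¹ * z * h = z * u := by rw [hu]; group
        have h6 := S.central _ v.2 z hzP
        rw [hzu, ← hyv] at *
        calc z * u * y * (z * u)⁻¹ * y⁻¹ = z * (u * y * u⁻¹ * y⁻¹) * (y * z⁻¹ * y⁻¹) := by group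
          _ = (u * y * u⁻¹ * y⁻¹) * z * (y * z⁻¹ * y⁻¹) := by rw [h6]
          _ = (u * y * u⁻¹ * y⁻¹) * (z * y * z⁻¹ * y⁻¹) := by group
      rw [← key]
      have hmem : (h : G)⁻¹ * z * h * y * ((h : G)⁻¹ * z * h)⁻¹ * y⁻¹ ∈ V := by
        rw [key]; exact mul_mem v.2 hcy
      have h7 := S.commute_V hpq hnopq Q hh hmem
      calc z * ((h : G) * y * (h : G)⁻¹) * z⁻¹ * ((h : G) * y * (h : G)⁻¹)⁻¹
          = (h : G) * ((h : G)⁻¹ * z * h * y * ((h : G)⁻¹ * z * h)⁻¹ * y⁻¹) * (h : G)⁻¹ := by group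
        _ = _ := by rw [h7]; group
    rw [e1, map_mul] at h1'
    exact mul_eq_right.1 h1'.symm
  have hΦinj : Function.Injective Φ := by
    rw [injective_iff_map_eq_one]
    rintro ⟨μ, l⟩ hk
    have hk' : μ.comp cz * (l : P →* ℂˣ) = 1 := hk
    have hμ : μ = 1 := hczh μ (by
      have e : μ.comp cz = (l : P →* ℂˣ)⁻¹ :=
        MonoidHom.ext fun y => eq_inv_of_mul_eq_one_left (DFunLike.congr_fun hk' y)
      rw [e]; exact F.inv_mem l.2)
    subst hμ
    exact Prod.ext rfl (Subtype.ext (MonoidHom.ext fun y => by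
      have := DFunLike.congr_fun hk' y
      simpa using this))
  have hΦz : ∀ x, Φ x ⟨z, hzP⟩ = 1 := by
    rintro ⟨μ, l, hl⟩
    show μ (cz ⟨z, hzP⟩) * l ⟨z, hzP⟩ = 1
    have h1 : cz ⟨z, hzP⟩ = 1 := Subtype.ext (by
      show z * z * z⁻¹ * z⁻¹ = 1
      group)
    have h2 := (mem_linStab P H l h).1 (hl hh) ⟨(h : G) * w * (h : G)⁻¹, S.Pn.conj_mem w hw h⟩
    rw [h1, map_one, one_mul, show (⟨z, hzP⟩ : P) =
      (⟨w, hw⟩ : P)⁻¹ * ⟨(h : G) * w * (h : G)⁻¹, S.Pn.conj_mem w hw h⟩ from rfl, map_mul, map_inv,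
      inv_mul_eq_one, ← h2]
    congr 1
    exact Subtype.ext (by simp [mul_assoc])
  haveI := finite_dual (V := P)
  haveI := finite_dual (V := V)
  have hlt : Nat.card V * Nat.card F < Nat.card (P →* ℂˣ) := by
    rw [← card_dual S.Vc, show Nat.card (Dual V) = Nat.card (V →* ℂˣ) from rfl, ← Nat.card_prod]
    refine lt_of_le_of_ne (Nat.card_le_card_of_injective Φ hΦinj) fun heq => ?_
    obtain ⟨l, hl⟩ := exists_lin_ne_one hzP (S.der ▸ hwv)
    obtain ⟨x, hx⟩ := ((Nat.bijective_iff_injective_and_card Φ).2 ⟨hΦinj, heq⟩).2 l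
    exact hl (hx ▸ hΦz x)
  -- the two partitions
  have hLp : ∀ K : Subgroup (P →* ℂˣ), ∃ i, Nat.card K = p ^ i := by
    intro K
    have h1 : Nat.card (P →* ℂˣ) = (commutator P).index := by
      rw [Nat.card_congr Abelianization.lift, CommGroup.card_monoidHom_of_hasEnoughRootsOfUnity,
        Subgroup.index_eq_card]
      rfl
    obtain ⟨k, hk⟩ := S.pP.exists_card_eq
    have h2 : Nat.card K ∣ Nat.card P :=
      K.card_subgroup_dvd_card.trans (h1 ▸ (commutator P).index_dvd_card)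
    rw [hk] at h2
    obtain ⟨i, -, hi⟩ := (Nat.dvd_prime_pow hp.out).1 h2
    exact ⟨i, hi⟩
  obtain ⟨w', hw'⟩ := hLp ⊤
  rw [Subgroup.card_top] at hw'
  obtain ⟨f, hf⟩ := hLp F
  obtain ⟨e, he⟩ := hLp (linFix P H (R : Subgroup H))
  obtain ⟨g, hg⟩ := hLp (F ⊓ linFix P H (R : Subgroup H))
  obtain ⟨a, ha⟩ := (S.pP.to_le S.V_le).exists_card_eq
  have hVd : Nat.card (V →* ℂˣ) = p ^ a := (card_dual S.Vc).trans ha
  obtain ⟨c, hc⟩ : ∃ c, Nat.card (linFix V H (R : Subgroup H)) = p ^ c := by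
    obtain ⟨c, -, hc⟩ := (Nat.dvd_prime_pow hp.out).1
      (hVd ▸ (linFix V H (R : Subgroup H)).card_subgroup_dvd_card)
    exact ⟨c, hc⟩
  set n := Nat.card (Sylow r H)
  -- on `V`
  have hcV : p ^ a - 1 = n * (p ^ c - 1) := by
    letI := linConjAct V H
    have hgood := fun μ hμ => S.good_lin hpr hnopr μ hμ
    have h1 := card_eq_card_sylow_mul (A := H) (s := r) ({μ : V →* ℂˣ | μ ≠ 1})
      (fun g μ hμ h0 => hμ (by
        have := congrArg (g⁻¹ • ·) (show g • μ = 1 from h0)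
        rw [inv_smul_smul] at this
        rw [this]
        exact MonoidHom.ext fun x => rfl))
      (fun μ hμ => by obtain ⟨T, hT, -, -⟩ := hgood μ hμ; exact ⟨T, hT⟩)
      (fun μ hμ T T' hT hT' => (hgood μ hμ).eq_of_le hT hT') R
    rw [Nat.card_coe_set_eq, show {μ : V →* ℂˣ | μ ≠ 1} = {(1 : V →* ℂˣ)}ᶜ from rfl, Set.ncard_compl,
      Set.ncard_singleton, hVd] at h1
    rw [h1]
    congr 1
    show Nat.card ↥({μ : V →* ℂˣ | μ ∈ {ν : V →* ℂˣ | ν ≠ 1} ∧ (R : Subgroup H) ≤ linStab V H μ}) = _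
    rw [Nat.card_coe_set_eq, show {μ : V →* ℂˣ | μ ∈ {ν : V →* ℂˣ | ν ≠ 1} ∧ (R : Subgroup H) ≤ linStab V H μ}
      = (linFix V H (R : Subgroup H) : Set (V →* ℂˣ)) \ {1} from Set.ext fun μ => and_comm,
      Set.ncard_sdiff_singleton_of_mem (one_mem _), ← Nat.card_coe_set_eq]
    exact congrArg (· - 1) hc
  -- on `P`
  have hcL : p ^ w' - p ^ f = n * (p ^ e - p ^ g) := by
    letI := linConjAct P H
    have hgood : ∀ l : P →* ℂˣ, l ∉ F → Good r (linStab P H l) := by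
      intro l hl
      rw [linStab_eq]
      refine good_inertia S.compl (isIrrCharacter_of_hom ((Units.coeHom ℂ).comp l))
        (extends_hom S.compl ((Units.coeHom ℂ).comp l)) hq.out hr.out hqr hnoqr (dvd_mul_of_dvd_left ?_ _)
      show q ∣ ((CharApp.inertia P (fun x : P => ((l x : ℂˣ) : ℂ))).subgroupOf H).index
      rw [← linStab_eq]
      by_contra hd
      obtain ⟨T0⟩ : Nonempty (Sylow q (linStab P H l)) := inferInstance
      have hidx : ¬ q ∣ ((T0 : Subgroup (linStab P H l)).map (linStab P H l).subtype).index := by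
        rw [Subgroup.index_map_subtype]
        exact hq.out.not_dvd_mul T0.not_dvd_index hd
      haveI := Sylow.unique_of_normal Q hQn
      apply hl
      show (Q : Subgroup H) ≤ linStab P H l
      rw [Subsingleton.elim Q ((T0.2.map _).toSylow hidx), IsPGroup.toSylow_coe]
      exact Subgroup.map_subtype_le _
    have hFinv : ∀ (g : H) (l : P →* ℂˣ), l ∈ F → g • l ∈ F := by
      intro g l hl x hx
      show x • (g • l) = g • l
      have h1 : (g⁻¹ * x * g) • l = l := hl (by simpa using hQn.conj_mem x hx g⁻¹)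
      conv_rhs => rw [← h1]
      rw [← mul_smul, ← mul_smul]
      congr 1
      group
    have h1 := card_eq_card_sylow_mul (A := H) (s := r) ((F : Set (P →* ℂˣ))ᶜ)
      (fun g l hl hgl => hl (by have := hFinv g⁻¹ _ hgl; rwa [inv_smul_smul] at this))
      (fun l hl => by obtain ⟨T, hT, -, -⟩ := hgood l hl; exact ⟨T, hT⟩)
      (fun l hl T T' hT hT' => (hgood l hl).eq_of_le hT hT') R
    rw [Nat.card_coe_set_eq, Set.ncard_compl, hw', ← Nat.card_coe_set_eq,
      show Nat.card (F : Set (P →* ℂˣ)) = p ^ f from hf] at h1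
    rw [h1]
    congr 1
    show Nat.card ↥{l : P →* ℂˣ | l ∈ (F : Set (P →* ℂˣ))ᶜ ∧ (R : Subgroup H) ≤ linStab P H l} = _
    rw [Nat.card_coe_set_eq, show {l : P →* ℂˣ | l ∈ (F : Set (P →* ℂˣ))ᶜ ∧ (R : Subgroup H) ≤ linStab P H l}
        = (linFix P H (R : Subgroup H) : Set (P →* ℂˣ)) \ (F ⊓ linFix P H (R : Subgroup H) : Subgroup _)
      from Set.ext fun l => ⟨fun ⟨h2, h3⟩ => ⟨h3, fun h4 => h2 h4.1⟩,
        fun ⟨h2, h3⟩ => ⟨fun h4 => h3 ⟨h4, h2⟩, h2⟩⟩,
      Set.ncard_sdiff (show ((F ⊓ linFix P H (R : Subgroup H) : Subgroup _) : Set (P →* ℂˣ)) ⊆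
        (linFix P H (R : Subgroup H) : Set (P →* ℂˣ)) from fun l hl => hl.2),
      ← Nat.card_coe_set_eq, ← Nat.card_coe_set_eq]
    show Nat.card (linFix P H (R : Subgroup H)) - Nat.card (F ⊓ linFix P H (R : Subgroup H) : Subgroup _) = _
    rw [he, hg]
  have hn1 : 1 < n := by
    by_contra hle
    haveI : Subsingleton (Sylow r H) := Finite.card_le_one_iff_subsingleton.1 (by omega)
    exact hRn R.normal_of_subsingleton
  have hpn : ¬ p ∣ n := by
    intro hd
    have h1 : n ∣ Nat.card H := (Sylow.card_dvd_index R).trans (Subgroup.index_dvd_card _)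
    obtain ⟨k, hk⟩ := S.pP.exists_card_eq
    have h2 : p ∣ Nat.card P := by
      rw [hk]
      refine dvd_pow_self p fun h0 => S.Vne ((Subgroup.card_eq_one (H := V)).1 ?_)
      have := Subgroup.card_dvd_of_le S.V_le
      rw [hk, h0, pow_zero, Nat.dvd_one] at this
      exact this
    exact hp.out.ne_one (Nat.dvd_one.1 (S.cop ▸ Nat.dvd_gcd h2 (hd.trans h1)))
  have ha0 : 0 < a := by
    by_contra h0
    exact S.Vne ((Subgroup.card_eq_one (H := V)).1 (by rw [ha, Nat.eq_zero_of_not_pos h0, pow_zero]))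
  refine not_pow_count hp.out hn1 hpn ha0 hcV.symm hcL.symm ?_
  rw [← Nat.pow_lt_pow_iff_right hp.out.one_lt, pow_add, ← ha, ← hw', ← hf]
  exact hlt

/-- The conclusion. -/
theorem false_of [Group.IsSolvable G] {q r : ℕ} [hq : Fact q.Prime] [hr : Fact r.Prime]
    (hpq : p ≠ q) (hpr : p ≠ r) (hqr : q ≠ r)
    (hnopq : ∀ χ : IrrCharacter G, ¬ p * q ∣ charDegree (χ : G → ℂ))
    (hnopr : ∀ χ : IrrCharacter G, ¬ p * r ∣ charDegree (χ : G → ℂ))
    (hnoqr : ∀ χ : IrrCharacter G, ¬ q * r ∣ charDegree (χ : G → ℂ))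
    (hqd : ∃ χ : IrrCharacter G, q ∣ charDegree (χ : G → ℂ))
    (hrd : ∃ χ : IrrCharacter G, r ∣ charDegree (χ : G → ℂ)) : False := by
  haveI := S.Pn; haveI := S.Vn
  obtain ⟨Q⟩ : Nonempty (Sylow q H) := inferInstance
  obtain ⟨R⟩ : Nonempty (Sylow r H) := inferInstance
  have hnoqr' : ∀ χ : IrrCharacter G, ¬ r * q ∣ charDegree (χ : G → ℂ) := by
    intro χ; rw [mul_comm]; exact hnoqr χ
  by_cases hQn : (Q : Subgroup H).Normal
  · haveI := hQn
    by_cases hRn : (R : Subgroup H).Normal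
    · haveI := hRn
      exact S.false_of_normal hpq hpr hqr hnopq hnopr hnoqr hqd hrd Q R
    · exact S.false_of_one_normal hpq hpr hqr hnopq hnopr hnoqr hqd Q R hRn
  by_cases hRn : (R : Subgroup H).Normal
  · haveI := hRn
    exact S.false_of_one_normal hpr hpq hqr.symm hnopr hnopq hnoqr' hrd R Q hQn
  -- neither: the core on the dual of `V`
  have hmod : Module (ZMod p) (Dual V) := dualModule S.Vexp
  haveI : Finite (Dual V) := finite_dual (V := V)
  let ρ : H →* Module.End (ZMod p) (Dual V) := (dualRep (t := p) (V := V)).comp H.subtype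
  obtain ⟨a, ha⟩ := (S.pP.to_le S.V_le).exists_card_eq
  have hstab : ∀ v : Dual V, stab ρ v = linStab V H v.toMul := fun v => by
    ext x
    rw [mem_stab_dual, linStab_eq, Subgroup.mem_subgroupOf]
  have hμ : ∀ v : Dual V, v ≠ 0 → v.toMul ≠ 1 := fun v hv h => hv (Additive.toMul.injective h)
  obtain ⟨μ, hμ1⟩ := S.exists_mu hpq hnopq
  have hker : ∀ {s : ℕ} [Fact s.Prime], p ≠ s →
      (∀ χ : IrrCharacter G, ¬ p * s ∣ charDegree (χ : G → ℂ)) → ∀ T : Sylow s H,
      ¬ (T : Subgroup H).Normal → ¬ (T : Subgroup H) ≤ ρ.toHomUnits.ker := by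
    intro s _ hps hno T hT hle
    refine hT (Good.normal_of_le_ker (S.good_lin hps hno μ hμ1) (K := ρ.toHomUnits.ker) ?_ hle).1
    intro x hx
    have h1 : stab ρ (Additive.ofMul μ) = linStab V H μ := hstab _
    rw [← h1, mem_stab, show ρ x = 1 from congrArg Units.val hx]
    rfl
  have hW : Nat.card (Dual V) = p ^ a := (card_dual S.Vc).trans ha
  have hnt : Nontrivial (Dual V) := ⟨Additive.ofMul μ, 0, fun h => hμ1 (Additive.ofMul.injective h)⟩
  have hgq : ∀ v : Dual V, v ≠ 0 → Good q (stab ρ v) := fun v hv => by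
    rw [hstab]; exact S.good_lin hpq hnopq _ (hμ v hv)
  have hgr : ∀ v : Dual V, v ≠ 0 → Good r (stab ρ v) := fun v hv => by
    rw [hstab]; exact S.good_lin hpr hnopr _ (hμ v hv)
  have e1 := exists_degree_of_good (H := H) (t := p) (W := Dual V) ρ (q := q) (r := r) (m := a)
    hqr hW hnt
  have e2 := e1 hgq hgr
  have hQk := hker hpq hnopq Q hQn
  have e3 := e2 ⟨Q, hQk⟩
  have hRk := hker hpr hnopr R hRn
  have e4 := e3 ⟨R, hRk⟩
  obtain ⟨χ, hχ⟩ := e4
  have hs : Function.Surjective (proj S.compl) := fun x => ⟨x, proj_coe S.compl x⟩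
  have hirr := IsIrrCharacter.comp_surjective χ.2 _ hs
  refine hnoqr ⟨_, hirr⟩ ?_
  have h1 := CharApp.DegreeSets.apply_one hirr
  rw [map_one (proj S.compl), CharApp.DegreeSets.apply_one χ.2, Nat.cast_inj] at h1
  exact h1 ▸ hχ

end CSetup

end Cfsg.Agent.ThreePrime
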