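import Cfsg.Agent.Lib.ThreePrime.Spread
import Cfsg.Agent.Lib.CharApp.DegreeSets
import Cfsg.Agent.Lib.CharExtend.Coprime
import Cfsg.Agent.S4493

/-!
Degrees over a character of a normal subgroup with a complement.

* `proj`, `Extends`, `extends_hom`, `extends_coprime`
* `exists_degree_split`: the degrees `|H : H_θ| β(1) θ(1)`
* `good_inertia`: missing products of primes give normal abelian Sylow subgroups in `H_θ`
-/

set_option autoImplicit false
set_option linter.style.haveILetI false
set_option linter.unusedSectionVars false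

namespace Cfsg.Agent.ThreePrime

open Cfsg Cfsg.Agent.Char

variable {G : Type*} [Group G] [Finite G] {N H : Subgroup G} [hN : N.Normal]
  (hNH : Subgroup.IsComplement' N H)
include hNH

theorem bij_quot : Function.Bijective ((QuotientGroup.mk' N).comp H.subtype) := by
  constructor
  · intro x y hxy
    have h1 : ((x⁻¹ * y : H) : G) ∈ N := by
      have := QuotientGroup.eq.1 hxy
      simpa using this
    exact eq_of_inv_mul_eq_one (Subtype.ext (Subgroup.disjoint_def.1 hNH.disjoint h1 (x⁻¹ * y).2))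
  · intro z
    obtain ⟨g, rfl⟩ := QuotientGroup.mk'_surjective N z
    obtain ⟨⟨n, h⟩, hg, -⟩ := hNH.existsUnique g
    refine ⟨h, ?_⟩
    show QuotientGroup.mk' N (h : G) = QuotientGroup.mk' N g
    rw [← hg, map_mul, show QuotientGroup.mk' N (n : G) = 1 from (QuotientGroup.eq_one_iff _).2 n.2,
      one_mul]

/-- The projection to the complement. -/
noncomputable def proj : G →* H :=
  (MulEquiv.ofBijective _ (bij_quot hNH)).symm.toMonoidHom.comp (QuotientGroup.mk' N)

theorem mk_proj (g : G) : QuotientGroup.mk' N ((proj hNH g : H) : G) = QuotientGroup.mk' N g :=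
  (MulEquiv.ofBijective _ (bij_quot hNH)).apply_symm_apply _

theorem proj_coe (h : H) : proj hNH (h : G) = h :=
  (MulEquiv.ofBijective _ (bij_quot hNH)).symm_apply_apply h

theorem proj_eq_one {n : G} (hn : n ∈ N) : proj hNH n = 1 := by
  rw [proj, MonoidHom.comp_apply, show QuotientGroup.mk' N n = 1 from (QuotientGroup.eq_one_iff n).2 hn,
    map_one]

theorem mul_proj_inv_mem (g : G) : g * ((proj hNH g : H) : G)⁻¹ ∈ N := by
  rw [← QuotientGroup.eq_one_iff]
  show QuotientGroup.mk' N (g * ((proj hNH g : H) : G)⁻¹) = 1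
  rw [map_mul, map_inv, mk_proj, mul_inv_cancel]

theorem proj_mem {T : Subgroup G} (hT : N ≤ T) {g : G} (hg : g ∈ T) :
    proj hNH g ∈ T.subgroupOf H := by
  rw [Subgroup.mem_subgroupOf]
  have h := T.mul_mem (T.inv_mem (hT (mul_proj_inv_mem hNH g))) hg
  simpa [mul_assoc] using h

theorem index_eq {T : Subgroup G} (hT : N ≤ T) : T.index = (T.subgroupOf H).index := by
  have hs : Function.Surjective (proj hNH) := fun h => ⟨h, proj_coe hNH h⟩
  rw [← Subgroup.index_comap_of_surjective (T.subgroupOf H) hs]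
  congr 1
  ext g
  refine ⟨fun hg => proj_mem hNH hT hg, fun hg => ?_⟩
  rw [Subgroup.mem_comap, Subgroup.mem_subgroupOf] at hg
  simpa using T.mul_mem (hT (mul_proj_inv_mem hNH g)) hg

omit hNH in
/-- `θ` extends to its inertia group. -/
def Extends (θ : N → ℂ) : Prop :=
  ∃ χ : CharApp.inertia N θ → ℂ, IsIrrCharacter (CharApp.inertia N θ) χ ∧
    ∀ (n : N) (hn : (n : G) ∈ CharApp.inertia N θ), χ ⟨n, hn⟩ = θ n

/-- A linear character extends. -/
theorem extends_hom (l : N →* ℂ) : Extends (fun n : N => l n) := by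
  set T := CharApp.inertia N (fun n : N => l n)
  have hNT : N ≤ T := CharApp.le_inertia N
    (IsIrrCharacter.isClassFunction (isIrrCharacter_of_hom l))
  let L : T →* ℂ :=
    { toFun := fun x => l ⟨(x : G) * ((proj hNH (x : G) : H) : G)⁻¹, mul_proj_inv_mem hNH x⟩
      map_one' := by
        rw [← map_one l]; congr 1; exact Subtype.ext (by simp)
      map_mul' := fun x y => by
        set px := ((proj hNH (x : G) : H) : G)
        set py := ((proj hNH (y : G) : H) : G)
        have hpx : px ∈ T := Subgroup.mem_subgroupOf.1 (proj_mem hNH hNT x.2)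
        have hinv := (CharApp.mem_inertia_iff N).1 hpx ⟨(y : G) * py⁻¹, mul_proj_inv_mem hNH y⟩
        rw [← hinv, ← map_mul]
        congr 1
        refine Subtype.ext ?_
        simp only [Subgroup.coe_mul, map_mul, mul_inv_rev, px, py]
        group }
  refine ⟨fun x => L x, isIrrCharacter_of_hom L, fun n hn => ?_⟩
  show l _ = l n
  congr 1
  exact Subtype.ext (by simp [proj_eq_one hNH n.2])

theorem extends_coprime {θ : N → ℂ} (hθ : IsIrrCharacter N θ)
    (hcop : (Nat.card N).Coprime (Nat.card H)) : Extends θ := by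
  classical
  haveI := Fintype.ofFinite G
  set T := CharApp.inertia N θ
  have hNT : N ≤ T := CharApp.le_inertia N (IsIrrCharacter.isClassFunction hθ)
  let e := Subgroup.subgroupOfEquivOfLe hNT
  have hc : (Nat.card (N.subgroupOf T)).Coprime (N.subgroupOf T).index := by
    rw [Nat.card_congr e.toEquiv]
    refine hcop.coprime_dvd_right ?_
    rw [← hNH.symm.index_eq_card]
    exact Subgroup.relIndex_dvd_index_of_normal _ _
  obtain ⟨χ, hχ, hext⟩ := CharExtend.extends_of_coprime (N := N.subgroupOf T)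
    (IsIrrCharacter.comp_equiv hθ e) (fun g x => by
      have := (CharApp.mem_inertia_iff N).1 g.2 (e x)
      exact this) hc
  exact ⟨χ, hχ, fun n hn => hext ⟨⟨n, hn⟩, n.2⟩⟩

/-- The degrees over an extendible character. -/
theorem exists_degree_split {θ : N → ℂ} (hθ : IsIrrCharacter N θ) (hext : Extends θ) :
    ∀ β : IrrCharacter ((CharApp.inertia N θ).subgroupOf H), ∃ χ : IrrCharacter G, charDegree (χ : G → ℂ) = ((CharApp.inertia N θ).subgroupOf H).index *
      (charDegree (β : (CharApp.inertia N θ).subgroupOf H → ℂ) * charDegree θ) := by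
  classical
  haveI := Fintype.ofFinite G
  set T := CharApp.inertia N θ
  have hNT : N ≤ T := CharApp.le_inertia N (IsIrrCharacter.isClassFunction hθ)
  obtain ⟨χ0, hχ0, hres⟩ := hext
  intro β
  let π : T →* T.subgroupOf H := ((proj hNH).comp T.subtype).codRestrict _ fun x => proj_mem hNH hNT x.2
  let b : T.subgroupOf H → ℂ := (β : T.subgroupOf H → ℂ)
  have hπs : Function.Surjective π := fun k =>
    ⟨⟨(k : G), Subgroup.mem_subgroupOf.1 k.2⟩, Subtype.ext (proj_coe hNH (k : H))⟩
  have hβ' := IsIrrCharacter.comp_surjective β.2 π hπs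
  let e := Subgroup.subgroupOfEquivOfLe hNT
  have hresirr : IsIrrCharacter (N.subgroupOf T) (fun n : N.subgroupOf T => χ0 n) := by
    have h0 : (fun n : N.subgroupOf T => χ0 n) = fun n => θ (e n) :=
      funext fun n => hres (e n) n.1.2
    rw [h0]; exact IsIrrCharacter.comp_equiv hθ e
  have hπ1 : ∀ n : N, ∀ hn : (n : G) ∈ T, π ⟨n, hn⟩ = 1 := fun n hn =>
    Subtype.ext (proj_eq_one hNH n.2)
  have htriv : CharApp.TrivOn (N.subgroupOf T) (fun x : T => b (π x)) := fun n => by
    show b (π (n : T)) = b (π 1)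
    rw [map_one, show π (n : T) = 1 from hπ1 (e n) n.1.2]
  have hψ := CharApp.gallagher_irr (N.subgroupOf T) hχ0 hresirr hβ' htriv
  set ψ : T → ℂ := χ0 * fun x : T => b (π x) with hψdef
  have hval : ∀ n : N, ψ ⟨(n : G), hNT n.2⟩ = b 1 * θ n := fun n => by
    simp only [hψdef, Pi.mul_apply]
    rw [hres n, hπ1 n, mul_comm]
  have hover : classInner (fun n : N => ψ ⟨(n : G), hNT n.2⟩) θ ≠ 0 := by
    rw [show (fun n : N => ψ ⟨(n : G), hNT n.2⟩) = b 1 • θ from funext hval,
      classInner_smul_left, classInner_irr_self hθ, mul_one]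
    exact IsIrrCharacter.apply_one_ne_zero β.2
  obtain ⟨hirr, -, -⟩ := CharApp.clifford_correspondence N hθ hψ hover
  refine ⟨⟨_, hirr⟩, ?_⟩
  have h1 := CharApp.DegreeSets.apply_one hirr
  rw [indFun_one_apply, show ψ 1 = b 1 * θ 1 from hval 1, show b 1 = _ from CharApp.DegreeSets.apply_one β.2,
    CharApp.DegreeSets.apply_one hθ, index_eq hNH hNT] at h1
  exact_mod_cast h1.symm

/-- Missing products give a normal abelian Sylow subgroup in the stabiliser. -/
theorem good_inertia [hsolv : Group.IsSolvable G] {θ : N → ℂ} (hθ : IsIrrCharacter N θ)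
    (hext : Extends θ) {p s : ℕ} (hp : p.Prime) (hs : s.Prime) (hps : p ≠ s)
    (hno : ∀ χ : IrrCharacter G, ¬ p * s ∣ charDegree (χ : G → ℂ))
    (hpd : p ∣ ((CharApp.inertia N θ).subgroupOf H).index * charDegree θ) :
    Good s ((CharApp.inertia N θ).subgroupOf H) := by
  haveI := Fact.mk hs
  set K := (CharApp.inertia N θ).subgroupOf H
  have hdeg : ∀ β : IrrCharacter K, ¬ s ∣ K.index * charDegree (β : K → ℂ) := by
    intro β hd
    obtain ⟨χ, hχ⟩ := exists_degree_split hNH hθ hext β
    refine hno χ (((Nat.coprime_primes hp hs).2 hps).mul_dvd_of_dvd_of_dvd ?_ ?_)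
    · rw [hχ, mul_left_comm]; exact dvd_mul_of_dvd_right hpd _
    · rw [hχ, ← mul_assoc]; exact dvd_mul_of_dvd_left hd _
  have hidx : ¬ s ∣ K.index := fun hd =>
    hdeg ⟨1, isIrrCharacter_one⟩ (dvd_mul_of_dvd_left hd _)
  obtain ⟨Q, hQn, hQc, hQp, hQi⟩ := (S4493.result (inferInstance : Group.IsSolvable K) s hs).2
    fun β hd => hdeg β (dvd_mul_of_dvd_right hd _)
  have hmap : (Q.map K.subtype).index = Q.index * K.index := by
    rw [Subgroup.index_map_subtype]
  refine ⟨(hQp.map K.subtype).toSylow (by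
    rw [hmap, hs.dvd_mul, not_or]; exact ⟨hQi, hidx⟩), ?_, ?_, ?_⟩
  · rw [IsPGroup.toSylow_coe]; exact Subgroup.map_subtype_le Q
  · rw [IsPGroup.toSylow_coe]
    intro x hx
    exact Subgroup.le_normalizer_map K.subtype ⟨⟨x, hx⟩, by
      rw [Subgroup.normalizer_eq_top Q]; exact Subgroup.mem_top _, rfl⟩
  · rw [IsPGroup.toSylow_coe]
    rintro _ ⟨x, hx, rfl⟩ _ ⟨y, hy, rfl⟩
    rw [← map_mul, ← map_mul, hQc x hx y hy]

end Cfsg.Agent.ThreePrime
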