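import Cfsg.Agent.Lib.ThreePrime.Linear

/-!
The spaces without a primitive prime: dimension two, and dimension six over two elements.

* `Spr.false_of_dim_two`, `Spr.false_of_two_six`
-/

set_option autoImplicit false
set_option linter.style.haveILetI false
set_option linter.unusedSectionVars false

namespace Cfsg.Agent.ThreePrime

open Module

variable {t : ℕ} [ht : Fact t.Prime] {V : Type*} [AddCommGroup V] [Module (ZMod t) V] [Finite V]
  {A : Type*} [Group A] [Finite A] {ρ : A →* Module.End (ZMod t) V} {q : ℕ} [hq : Fact q.Prime]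

theorem pow_apply_of_sub_fixed {f : Module.End (ZMod t) V} {w u : V} (hw : f w = w + u)
    (hu : f u = u) : ∀ n : ℕ, (f ^ n) w = w + n • u := by
  intro n
  induction n with
  | zero => simp
  | succ n ih =>
    rw [pow_succ', Module.End.mul_apply, ih, map_add, map_nsmul, hw, hu, succ_nsmul]
    abel

/-- The range and the kernel of `f - 1` meet trivially in coprime characteristic. -/
theorem range_inf_ker {f : Module.End (ZMod t) V} {s : ℕ} (hf : f ^ s = 1) (hs : (s : ZMod t) ≠ 0) :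
    LinearMap.range (f - 1) ⊓ LinearMap.ker (f - 1) = ⊥ := by
  rw [eq_bot_iff]
  rintro u ⟨⟨w, hw⟩, hu⟩
  rw [LinearMap.sub_apply, Module.End.one_apply, sub_eq_iff_eq_add'] at hw
  rw [SetLike.mem_coe, LinearMap.mem_ker, LinearMap.sub_apply, Module.End.one_apply,
    sub_eq_zero] at hu
  have h := pow_apply_of_sub_fixed hw hu s
  rw [hf, Module.End.one_apply, left_eq_add, ← Nat.cast_smul_eq_nsmul (ZMod t)] at h
  exact (Submodule.mem_bot (R := ZMod t)).2 ((smul_eq_zero.1 h).resolve_left hs)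

namespace Spr

theorem false_of_dim_two (h : Spr ρ q) (hV : Nat.card V = t ^ 2) (hqt : q ≠ t) : False := by
  obtain ⟨P⟩ : Nonempty (Sylow q A) := inferInstance
  obtain ⟨x, hx, hxo⟩ := h.sylow_ne_bot P
  obtain ⟨v, hv, hvP⟩ := h.exists_fixed P
  haveI : Module.Finite (ZMod t) V := Module.Finite.of_finite
  have hfin : finrank (ZMod t) V = 2 := by
    have := Module.natCard_eq_pow_finrank (K := ZMod t) (V := V)
    rw [hV, Nat.card_zmod] at this
    exact (Nat.pow_right_injective ht.out.two_le this).symm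
  have hxq : (ρ x) ^ q = 1 := by rw [← map_pow, ← hxo, pow_orderOf_eq_one, map_one]
  set K := LinearMap.ker (ρ x - 1)
  have hvK : v ∈ K := by
    rw [LinearMap.mem_ker, LinearMap.sub_apply, Module.End.one_apply, sub_eq_zero]
    exact hvP hx
  have hK0 : K ≠ ⊥ := fun h0 => hv ((Submodule.mem_bot (R := ZMod t)).1 (h0 ▸ hvK))
  have hKtop : K ≠ ⊤ := fun h0 => hq.out.ne_one (by
    have hx1 : x = 1 := h.inj (by
      rw [map_one, ← sub_eq_zero, ← LinearMap.ker_eq_top]; exact h0)
    rw [← hxo, hx1, orderOf_one])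
  have hKlt := Submodule.finrank_lt hKtop
  have hKpos : finrank (ZMod t) K ≠ 0 := fun h0 => hK0 (Submodule.finrank_eq_zero.1 h0)
  have hsum : finrank (ZMod t) (LinearMap.range (ρ x - 1)) + finrank (ZMod t) K = 2 := by
    rw [← hfin]; exact LinearMap.finrank_range_add_finrank_ker (ρ x - 1)
  have hU : finrank (ZMod t) (LinearMap.range (ρ x - 1)) = 1 := by omega
  obtain ⟨u, hu0, hspan⟩ := finrank_eq_one_iff'.1 hU
  have huU : ρ x (u : V) ∈ LinearMap.range (ρ x - 1) := by
    obtain ⟨w, hw⟩ := LinearMap.mem_range.1 u.2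
    refine LinearMap.mem_range.2 ⟨ρ x w, ?_⟩
    rw [← hw]
    simp only [LinearMap.sub_apply, Module.End.one_apply, map_sub]
  obtain ⟨c, hc⟩ := hspan ⟨_, huU⟩
  have hc' : c • (u : V) = ρ x (u : V) := congrArg Subtype.val hc
  have huV : (u : V) ≠ 0 := fun h0 => hu0 (Subtype.ext h0)
  have hc0 : c ≠ 0 := fun h0 => huV (by
    rw [h0, zero_smul] at hc'
    have := congrArg (ρ x⁻¹) hc'.symm
    rwa [← Module.End.mul_apply, ← map_mul, inv_mul_cancel, map_one, Module.End.one_apply,
      map_zero] at this)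
  have hst : stab ρ (ρ x (u : V)) = stab ρ (u : V) := by
    ext g
    rw [mem_stab, mem_stab, ← hc', map_smul]
    exact ⟨fun h' => smul_right_injective V hc0 h', fun h' => by rw [h']⟩
  have hfix := h.fixes_of_stab_eq (by rw [← hxo, pow_orderOf_eq_one]) huV hst
  have hs : (q : ZMod t) ≠ 0 := by
    rw [Ne, ZMod.natCast_eq_zero_iff, Nat.prime_dvd_prime_iff_eq ht.out hq.out]
    exact Ne.symm hqt
  refine huV ((Submodule.mem_bot (R := ZMod t)).1 (range_inf_ker hxq hs ▸ ?_))
  exact ⟨u.2, by rw [SetLike.mem_coe, LinearMap.mem_ker, LinearMap.sub_apply,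
    Module.End.one_apply, hfix, sub_self]⟩

section twoSix

variable {W : Type*} [AddCommGroup W] [Module (ZMod 2) W] [Finite W]
  {σ : A →* Module.End (ZMod 2) W}

theorem two_six_data (h : Spr σ q) (hW : Nat.card W = 2 ^ 6) (P : Sylow q A) :
    (∃ e, e ≤ 3 ∧ Nat.card (fixedSp σ (P : Subgroup A)) = 2 ^ e) ∧
      ∀ x ∈ (P : Subgroup A), orderOf x = q →
        q = 2 ∨ ((q = 5 ∨ q = 7 ∨ q = 31) ∧ ∃ k, 3 ≤ k ∧
          Nat.card (LinearMap.range (σ x - 1)) = 2 ^ k ∧ ¬ (∃ i, 0 < i ∧ i < k ∧ q ∣ 2 ^ i - 1) ∧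
          ∀ r : ℕ, r.Prime → r ∈ ({2, 5, 7, 31} : Finset ℕ) → r < q → ¬ r ∣ 2 ^ k - 1) := by
  obtain ⟨e, he, he0, hem, hed, hcount⟩ := h.count hW P
  refine ⟨⟨e, ?_, he⟩, fun x hx hxo => ?_⟩
  · have : e ∈ Nat.divisors 6 := Nat.mem_divisors.2 ⟨hed, by norm_num⟩
    rw [show Nat.divisors 6 = {1, 2, 3, 6} from by decide] at this
    simp only [Finset.mem_insert, Finset.mem_singleton] at this
    omega
  have hxq : (σ x) ^ q = 1 := by rw [← map_pow, ← hxo, pow_orderOf_eq_one, map_one]
  obtain ⟨f, hf, hcK, htop, hbot⟩ := exists_card_submodule hW (LinearMap.ker (σ x - 1))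
  obtain ⟨v, hv, hvP⟩ := h.exists_fixed P
  have hf0 : f ≠ 0 := fun h0 => hv ((Submodule.mem_bot (R := ZMod 2)).1 (hbot h0 ▸ by
    rw [LinearMap.mem_ker, LinearMap.sub_apply, Module.End.one_apply, sub_eq_zero]
    exact hvP hx))
  have hf6 : f < 6 := lt_of_le_of_ne hf fun h0 => hq.out.ne_one (by
    have hx1 : x = 1 := h.inj (by
      rw [map_one, ← sub_eq_zero, ← LinearMap.ker_eq_top]; exact htop h0)
    rw [← hxo, hx1, orderOf_one])
  have hmod := card_modEq_fixed (σ x) (s := q) (k := 1) (by rwa [pow_one])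
    (⊤ : Submodule (ZMod 2) W) (fun _ _ => Submodule.mem_top)
  rw [top_inf_eq, hcK, Nat.card_congr (Equiv.subtypeUnivEquiv fun _ => Submodule.mem_top), hW] at hmod
  have hdvd : q ∣ 2 ^ 6 - 2 ^ f :=
    (Nat.modEq_iff_dvd' (Nat.pow_le_pow_right (by norm_num) hf)).1 hmod.symm
  haveI : Module.Finite (ZMod 2) W := Module.Finite.of_finite
  have hU : Nat.card (LinearMap.range (σ x - 1)) = 2 ^ (6 - f) := by
    have hsum := LinearMap.finrank_range_add_finrank_ker (σ x - 1)
    have hW' := Module.natCard_eq_pow_finrank (K := ZMod 2) (V := W)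
    have hK' := Module.natCard_eq_pow_finrank (K := ZMod 2) (V := LinearMap.ker (σ x - 1))
    rw [hW, Nat.card_zmod] at hW'
    rw [hcK, Nat.card_zmod] at hK'
    have e1 := Nat.pow_right_injective (le_refl 2) hW'
    have e2 := Nat.pow_right_injective (le_refl 2) hK'
    rw [Module.natCard_eq_pow_finrank (K := ZMod 2), Nat.card_zmod]
    congr 1
    omega
  -- a Sylow number congruent to one, divisible by three
  have h3 : q ≠ 3 := by
    intro h3
    subst h3
    have hn := card_sylow_modEq_one 3 A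
    have : e ∈ ({1, 2, 3} : Finset ℕ) := by
      have : e ∈ Nat.divisors 6 := Nat.mem_divisors.2 ⟨hed, by norm_num⟩
      rw [show Nat.divisors 6 = {1, 2, 3, 6} from by decide] at this
      simp only [Finset.mem_insert, Finset.mem_singleton] at this ⊢
      omega
    rw [Nat.ModEq] at hn
    simp only [Finset.mem_insert, Finset.mem_singleton] at this
    rcases this with rfl | rfl | rfl <;> norm_num at hcount <;> omega
  have hprimes : ∀ {n : ℕ} (L : List ℕ), L.prod = n → (∀ a ∈ L, a.Prime) → q ∣ n → q ∈ L :=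
    fun L hL hp hd => mem_list_primes_of_dvd_prod (Nat.prime_iff.1 hq.out)
      (fun a ha => Nat.prime_iff.1 (hp a ha)) (hL ▸ hd)
  by_cases h2 : q = 2
  · exact Or.inl h2
  right
  have hf1 : 1 ≤ f := Nat.pos_of_ne_zero hf0
  have hcases : (q = 31 ∧ f = 1) ∨ (q = 5 ∧ f = 2) ∨ (q = 7 ∧ f = 3) := by
    interval_cases f
    · have := hprimes [2, 31] (by norm_num) (by norm_num) hdvd
      simp at this; omega
    · have := hprimes [2, 2, 3, 5] (by norm_num) (by norm_num) hdvd
      simp at this; omega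
    · have := hprimes [2, 2, 2, 7] (by norm_num) (by norm_num) hdvd
      simp at this; omega
    · have := hprimes [2, 2, 2, 2, 3] (by norm_num) (by norm_num) hdvd
      simp at this; omega
    · have := hprimes [2, 2, 2, 2, 2] (by norm_num) (by norm_num) hdvd
      simp at this; omega
  rcases hcases with ⟨rfl, rfl⟩ | ⟨rfl, rfl⟩ | ⟨rfl, rfl⟩
  all_goals refine ⟨by norm_num, _, by norm_num, hU, ?_, ?_⟩
  all_goals first
    | rintro ⟨i, hi0, hi, hd⟩
      interval_cases i <;> norm_num at hd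
    | intro r hr hmem hlt
      simp only [Finset.mem_insert, Finset.mem_singleton] at hmem
      rcases hmem with rfl | rfl | rfl | rfl <;> omega

theorem false_of_two_six {r : ℕ} [hr : Fact r.Prime] (h : Spr σ q) (hr' : Spr σ r)
    (hW : Nat.card W = 2 ^ 6) (hrq : r < q) : False := by
  haveI := h.nt
  obtain ⟨v, hv⟩ := exists_ne (0 : W)
  obtain ⟨P, hP, -, -⟩ := h.good v hv
  obtain ⟨R, hR, -, -⟩ := hr'.good v hv
  obtain ⟨x, hx, hxo⟩ := h.sylow_ne_bot P
  obtain ⟨y, hy, hyo⟩ := hr'.sylow_ne_bot R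
  obtain ⟨-, hcase⟩ := two_six_data h hW P
  obtain ⟨⟨e, he3, he⟩, hrcase⟩ := two_six_data hr' hW R
  rcases hcase x hx hxo with rfl | ⟨hqv, k, hk, hUk, hprim, hrk⟩
  · have := hr.out.two_le; omega
  have hrmem : r ∈ ({2, 5, 7, 31} : Finset ℕ) := by
    simp only [Finset.mem_insert, Finset.mem_singleton]
    rcases hrcase y hy hyo with h2 | ⟨h5, -⟩ <;> omega
  set U := LinearMap.range (σ x - 1)
  set E := fixedSp σ (R : Subgroup A)
  have hxq : (σ x) ^ q = 1 := by rw [← map_pow, ← hxo, pow_orderOf_eq_one, map_one]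
  have hcomm : ∀ z ∈ (R : Subgroup A), σ z * σ x = σ x * σ z := fun z hz => by
    rw [← map_mul, ← map_mul,
      (h.good v hv).commute (hr'.good v hv) (Ne.symm (by omega)) hP hR hx hz]
  have hUR : ∀ z ∈ (R : Subgroup A), ∀ u ∈ U, σ z u ∈ U := by
    rintro z hz _ ⟨w, rfl⟩
    refine ⟨σ z w, ?_⟩
    simp only [LinearMap.sub_apply, Module.End.one_apply, map_sub]
    rw [← Module.End.mul_apply, ← hcomm z hz, Module.End.mul_apply]
  -- a fixed point of `R` in `U`
  have hfix : U ⊓ E ≠ ⊥ := by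
    letI : MulAction (R : Subgroup A) U :=
      { smul := fun z u => ⟨σ (z : A) u, hUR _ z.2 _ u.2⟩
        one_smul := fun u => Subtype.ext (by
          show σ ((1 : (R : Subgroup A)) : A) u = u
          rw [OneMemClass.coe_one, map_one]; rfl)
        mul_smul := fun z z' u => Subtype.ext (by
          show σ ((z * z' : (R : Subgroup A)) : A) u = σ (z : A) (σ (z' : A) u)
          rw [Subgroup.coe_mul, map_mul]; rfl) }
    have hmod := R.2.card_modEq_card_fixedPoints U
    intro h0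
    have hall : ∀ u ∈ MulAction.fixedPoints (R : Subgroup A) U, u = 0 := fun u hu =>
      Subtype.ext ((Submodule.mem_bot (R := ZMod 2)).1 (h0 ▸ ⟨u.2, (mem_fixedSp σ).2 fun z hz =>
        congrArg Subtype.val (hu ⟨z, hz⟩)⟩ : (u : W) ∈ (⊥ : Submodule (ZMod 2) W)))
    have h1 : Nat.card (MulAction.fixedPoints (R : Subgroup A) U) = 1 := by
      rw [Nat.card_eq_one_iff_unique]
      exact ⟨⟨fun a b => Subtype.ext ((hall a a.2).trans (hall b b.2).symm)⟩,
        ⟨⟨0, fun z => Subtype.ext (map_zero _)⟩⟩⟩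
    rw [h1, hUk] at hmod
    exact hrk r hr.out hrmem hrq ((Nat.modEq_iff_dvd' (Nat.one_le_pow _ _ (by norm_num))).1 hmod.symm)
  -- it is all of `U`
  have hUE : U ≤ E := by
    haveI : Module.Finite (ZMod 2) W := Module.Finite.of_finite
    have hinv : ∀ u ∈ U ⊓ E, σ x u ∈ U ⊓ E := by
      rintro u ⟨⟨w, rfl⟩, hu⟩
      refine ⟨⟨σ x w, by simp only [LinearMap.sub_apply, Module.End.one_apply, map_sub]⟩,
        (mem_fixedSp σ).2 fun z hz => ?_⟩
      rw [mem_stab, ← Module.End.mul_apply, hcomm z hz, Module.End.mul_apply,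
        (mem_stab σ).1 ((mem_fixedSp σ).1 hu hz)]
    have hmod := card_modEq_fixed (σ x) (s := q) (k := 1) (by rwa [pow_one]) (U ⊓ E) hinv
    have hbot : U ⊓ E ⊓ LinearMap.ker (σ x - 1) = ⊥ := le_bot_iff.1
      ((inf_le_inf_right _ inf_le_left).trans (range_inf_ker hxq (by
        rw [Ne, ZMod.natCast_eq_zero_iff, Nat.prime_dvd_prime_iff_eq Nat.prime_two hq.out]
        omega)).le)
    rw [hbot, show Nat.card (⊥ : Submodule (ZMod 2) W) = 1 from Nat.card_unique] at hmod
    set i := finrank (ZMod 2) (U ⊓ E : Submodule (ZMod 2) W) with hi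
    have hci : Nat.card (U ⊓ E : Submodule (ZMod 2) W) = 2 ^ i := by
      rw [Module.natCard_eq_pow_finrank (K := ZMod 2), Nat.card_zmod]
    rw [hci] at hmod
    have hUi : finrank (ZMod 2) U = k := by
      have := Module.natCard_eq_pow_finrank (K := ZMod 2) (V := U)
      rw [hUk, Nat.card_zmod] at this
      exact (Nat.pow_right_injective (le_refl 2) this).symm
    have hi0 : i ≠ 0 := fun h0 => hfix (Submodule.finrank_eq_zero.1 h0)
    have hik : i ≤ k := hUi ▸ Submodule.finrank_mono inf_le_left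
    have hieq : i = k := by
      by_contra hne
      exact hprim ⟨i, Nat.pos_of_ne_zero hi0, by omega,
        (Nat.modEq_iff_dvd' (Nat.one_le_pow _ _ (by norm_num))).1 hmod.symm⟩
    exact inf_eq_left.1 (Submodule.eq_of_le_of_finrank_eq inf_le_left (hi ▸ hieq.trans hUi.symm))
  have hlt : U < E := lt_of_le_of_ne hUE fun heq => by
    have hvU : v ∈ U ⊓ LinearMap.ker (σ x - 1) := ⟨heq ▸ (mem_fixedSp σ).2 hR, by
      rw [SetLike.mem_coe, LinearMap.mem_ker, LinearMap.sub_apply, Module.End.one_apply, sub_eq_zero]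
      exact hP hx⟩
    rw [range_inf_ker hxq (by
        rw [Ne, ZMod.natCast_eq_zero_iff, Nat.prime_dvd_prime_iff_eq Nat.prime_two hq.out]
        omega)] at hvU
    exact hv hvU
  have hcard : Nat.card U < Nat.card E := by
    rw [← SetLike.coe_sort_coe, Nat.card_coe_set_eq, ← SetLike.coe_sort_coe, Nat.card_coe_set_eq]
    exact Set.ncard_lt_ncard (SetLike.coe_ssubset_coe.2 hlt) (Set.toFinite _)
  rw [hUk, he] at hcard
  have := (Nat.pow_lt_pow_iff_right (show 1 < 2 by norm_num)).1 hcard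
  omega

end twoSix

end Spr

end Cfsg.Agent.ThreePrime
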