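import Cfsg.Agent.Lib.ThreePrime.Fermat
import Cfsg.Agent.Lib.ThreePrime.Small
import Cfsg.Agent.Lib.Zsigmondy.Basic
import Cfsg.Agent.Lib.CharApp.DegreeSets
import Mathlib.Analysis.Complex.Polynomial.Basic
import Mathlib.GroupTheory.FiniteAbelian.Duality
import Mathlib.RingTheory.RootsOfUnity.Complex

/-!
A solvable linear group in which every vector stabiliser has normal abelian Sylow `q`- and
`r`-subgroups of the whole group has an irreducible degree divisible by `q * r`.

* `exists_faithful_linear`, `Spr.exists_degree`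
-/

set_option autoImplicit false
set_option linter.style.haveILetI false
set_option linter.unusedSectionVars false

namespace Cfsg.Agent.ThreePrime

open Cfsg Cfsg.Agent.Char

/-- A cyclic group has a faithful linear character. -/
theorem exists_faithful_linear (F : Type*) [Group F] [Finite F] [IsCyclic F] :
    ∃ l : F →* ℂˣ, Function.Injective l := by
  have h1 : Nat.card (rootsOfUnity (Nat.card F) ℂ) = Nat.card F := by
    haveI : NeZero (Nat.card F) := ⟨Nat.card_pos.ne'⟩
    exact Complex.card_rootsOfUnity _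
  haveI : NeZero (Nat.card F) := ⟨Nat.card_pos.ne'⟩
  exact ⟨(rootsOfUnity (Nat.card F) ℂ).subtype.comp (mulEquivOfCyclicCardEq h1.symm).toMonoidHom,
    (Subgroup.subtype_injective _).comp (MulEquiv.injective _)⟩

variable {t : ℕ} [ht : Fact t.Prime] {V : Type*} [AddCommGroup V] [Module (ZMod t) V] [Finite V]
  {A : Type*} [Group A] [Finite A] [Group.IsSolvable A] {ρ : A →* Module.End (ZMod t) V}
  {q r : ℕ} [hq : Fact q.Prime] [hr : Fact r.Prime]

theorem Spr.exists_degree (hQ : Spr ρ q) (hR : Spr ρ r) (hqr : q ≠ r) {m : ℕ}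
    (hV : Nat.card V = t ^ m) :
    ∃ χ : IrrCharacter A, q * r ∣ charDegree (χ : A → ℂ) := by
  classical
  obtain ⟨P⟩ : Nonempty (Sylow q A) := inferInstance
  obtain ⟨e, -, he0, hem, -, hcount⟩ := hQ.count hV P
  by_cases hm2 : m = 2
  · subst hm2
    exfalso
    by_cases hqt : q = t
    · exact hR.false_of_dim_two hV (fun h => hqr (hqt.trans h.symm))
    · exact hQ.false_of_dim_two hV hqt
  by_cases h26 : t = 2 ∧ m = 6
  · obtain ⟨rfl, rfl⟩ := h26
    exfalso
    rcases Nat.lt_or_gt_of_ne hqr with h | h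
    · exact hR.false_of_two_six hQ hV h
    · exact hQ.false_of_two_six hR hV h
  obtain ⟨ℓ, hℓ, hℓd, hℓp⟩ := Zsigmondy.exists_primitive ht.out.one_lt (show 1 < m by omega) h26
    fun h => hm2 h.1
  have hl : Ppd t m ℓ := ⟨hℓ, hℓd, hℓp⟩
  haveI := Fact.mk hℓ
  obtain ⟨a, ha⟩ : ∃ a : A, orderOf a = ℓ := by
    refine exists_prime_orderOf_dvd_card' ℓ ?_
    have h1 : ℓ ∣ Nat.card (Sylow q A) :=
      (hℓ.dvd_mul.1 (hcount ▸ hℓd)).resolve_right (hℓp e he0 hem)
    exact h1.trans ((Sylow.card_dvd_index P).trans (Subgroup.index_dvd_card _))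
  have hρa : ρ a ^ ℓ = 1 := by rw [← map_pow, ← ha, pow_orderOf_eq_one, map_one]
  have hρa1 : ρ a ≠ 1 := fun h => hℓ.ne_one (by
    rw [← ha, hQ.inj (h.trans (map_one ρ).symm), orderOf_one])
  -- `a` centralises the Fitting subgroup
  set F := Cfsg.fittingSubgroup A with hF
  have hFc : F ≤ Subgroup.centralizer {a} := by
    rw [hF, Cores.fittingSubgroup_eq_iSup_pCore]
    refine iSup_le fun p g hg => ?_
    haveI := Fact.mk p.2
    haveI := Cores.pCore_normal (p : ℕ) A
    rcases hl.commute_or_fermat ρ hV hQ.inj ha p.2 (Cfsg.pCore (p : ℕ) A)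
      (Cores.isPGroup_pCore _ _) with h1 | ⟨h2, ht2, ⟨j, hj⟩, x, hx, y, hy, hxy⟩
    · exact Subgroup.mem_centralizer_singleton_iff.2 (h1 g hg).eq.symm
    · by_cases hall : ∀ g ∈ Cfsg.pCore (p : ℕ) A, Commute a g
      · exact Subgroup.mem_centralizer_singleton_iff.2 (hall g hg).eq.symm
      · push Not at hall
        exact (hQ.false_of_fermat hl hV ha hj ht2 (Cfsg.pCore (p : ℕ) A)
          (by rw [← h2]; exact Cores.isPGroup_pCore _ _) hall).elim
  haveI hFn : F.Normal := Subgroup.sSup_normal _ fun _ h => h.1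
  have hcF : ∀ g : F, Commute (ρ a) (ρ (g : A)) := fun g =>
    (show Commute a (g : A) from (Subgroup.mem_centralizer_singleton_iff.1 (hFc g.2)).symm).map ρ
  haveI : IsCyclic F := hl.isCyclic_of_commute hV hρa hρa1 (ρ.comp F.subtype)
    (hQ.inj.comp F.subtype_injective) hcF
  -- a faithful linear character of the Fitting subgroup
  obtain ⟨l, hlinj⟩ := exists_faithful_linear F
  haveI := Fintype.ofFinite A
  haveI := Fintype.ofFinite F
  set θ : F → ℂ := fun g => ((l g : ℂˣ) : ℂ) with hθdef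
  have hθ : IsIrrCharacter F θ := isIrrCharacter_of_hom ((Units.coeHom ℂ).comp l)
  obtain ⟨χ, hχ, hover⟩ := CharApp.exists_over F hθ
  obtain ⟨k, -, -, hdeg, -⟩ := CharApp.DegreeSets.degree_over F hχ hθ hover
  have hI : CharApp.inertia F θ = F := by
    refine le_antisymm (fun g hg => ?_) (CharApp.le_inertia F (IsIrrCharacter.isClassFunction hθ))
    refine Solvable.centralizer_fitting_le A (Subgroup.mem_centralizer_iff.2 fun f hf => ?_)
    have h1 := (CharApp.mem_inertia_iff F).1 hg ⟨f, hf⟩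
    have h2 : g * f * g⁻¹ = f := congrArg Subtype.val (hlinj (Units.ext h1))
    exact (mul_inv_eq_iff_eq_mul.1 h2).symm
  have key : ∀ {s : ℕ} [Fact s.Prime], Spr ρ s → s ∣ F.index := by
    intro s _ hS
    have hs : s.Prime := Fact.out
    have hF' : ¬ s ∣ Nat.card F := by
      intro hd
      obtain ⟨x, hx⟩ := exists_prime_orderOf_dvd_card' s hd
      haveI := zpowers_normal_of_mem_cyclic F x.2
      have := hS.eq_one_of_normal_pGroup (Subgroup.zpowers (x : A))
        (IsPGroup.of_card (n := 1) (by rw [Nat.card_zpowers, Subgroup.orderOf_coe, hx, pow_one]))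
        (Subgroup.mem_zpowers _)
      rw [← Subgroup.orderOf_coe, this, orderOf_one] at hx
      exact hs.ne_one hx.symm
    have := hS.dvd
    rw [← F.card_mul_index] at this
    exact (hs.dvd_mul.1 this).resolve_left hF'
  refine ⟨⟨χ, hχ⟩, ?_⟩
  show q * r ∣ charDegree χ
  rw [hdeg, hI]
  exact dvd_mul_of_dvd_left (dvd_mul_of_dvd_right
    (((Nat.coprime_primes hq.out hr.out).2 hqr).mul_dvd_of_dvd_of_dvd (key hQ) (key hR)) _) _

end Cfsg.Agent.ThreePrime
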