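import Cfsg.Agent.Lib.ThreePrime.Core
import Cfsg.Agent.Lib.ThreePrime.Chars
import Mathlib.GroupTheory.GroupAction.ConjAct

/-!
The dual of an elementary abelian normal subgroup as a linear group.

* `Dual`, `dualModule`, `dualRep`, `dual_sep`, `commute_of_dual_fixed`, `mem_stab_dual`
* `Good.normal_of_le_ker`, `exists_degree_of_good`: the core applied to a quotient
-/

set_option autoImplicit false
set_option linter.style.haveILetI false
set_option linter.unusedSectionVars false

namespace Cfsg.Agent.ThreePrime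

open Cfsg Cfsg.Agent.Char

variable {G : Type*} [Group G] [Finite G] (V : Subgroup G) [V.Normal]

/-- The linear characters of a subgroup, written additively. -/
abbrev Dual : Type _ := Additive (V →* ℂˣ)

variable {V} {t : ℕ} [ht : Fact t.Prime]

/-- The dual of a group of exponent `t` as a vector space. -/
@[reducible] noncomputable def dualModule (hVt : ∀ x ∈ V, x ^ t = 1) : Module (ZMod t) (Dual V) :=
  AddCommGroup.zmodModule (G := Dual V) fun w => by
    refine Additive.toMul.injective (MonoidHom.ext fun x => ?_)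
    show w.toMul x ^ t = 1
    rw [← map_pow, show x ^ t = 1 from Subtype.ext (hVt x x.2), map_one]

theorem finite_dual : Finite (V →* ℂˣ) :=
  haveI : NeZero (Monoid.exponent (Abelianization V)) := ⟨Monoid.exponent_ne_zero_of_finite⟩
  Finite.of_equiv _ Abelianization.lift.symm

theorem dual_sep (hVc : ∀ a ∈ V, ∀ b ∈ V, a * b = b * a) {x : V} (h : ∀ μ : V →* ℂˣ, μ x = 1) :
    x = 1 := by
  letI : CommGroup V :=
    { (inferInstance : Group V) with mul_comm := fun a b => Subtype.ext (hVc a a.2 b b.2) }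
  by_contra hne
  obtain ⟨φ, hφ⟩ := CommGroup.exists_apply_ne_one_of_hasEnoughRootsOfUnity V ℂ hne
  exact hφ (h φ)

theorem card_dual (hVc : ∀ a ∈ V, ∀ b ∈ V, a * b = b * a) :
    Nat.card (Dual V) = Nat.card V := by
  letI : CommGroup V :=
    { (inferInstance : Group V) with mul_comm := fun a b => Subtype.ext (hVc a a.2 b b.2) }
  exact CommGroup.card_monoidHom_of_hasEnoughRootsOfUnity V ℂ

section rep

variable [Module (ZMod t) (Dual V)]

/-- The action of the group on the dual. -/
noncomputable def dualRep : G →* Module.End (ZMod t) (Dual V) :=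
  { toFun := fun g =>
      (MonoidHom.toAdditive
        ((MonoidHom.compHom' (MulAut.conjNormal (H := V) g⁻¹).toMonoidHom :
          (V →* ℂˣ) →* (V →* ℂˣ)))).toZModLinearMap t
    map_one' := LinearMap.ext fun w => Additive.toMul.injective (MonoidHom.ext fun x => by
      show w.toMul (MulAut.conjNormal (H := V) (1 : G)⁻¹ x) = w.toMul x
      rw [inv_one, map_one]; rfl)
    map_mul' := fun g h => LinearMap.ext fun w => Additive.toMul.injective (MonoidHom.ext fun x => by
      show w.toMul (MulAut.conjNormal (H := V) (g * h)⁻¹ x) =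
        w.toMul (MulAut.conjNormal (H := V) h⁻¹ (MulAut.conjNormal (H := V) g⁻¹ x))
      rw [mul_inv_rev, map_mul]; rfl) }

theorem dualRep_apply (g : G) (w : Dual V) (x : V) :
    (dualRep (t := t) g w).toMul x = w.toMul (MulAut.conjNormal (H := V) g⁻¹ x) := rfl

theorem mem_stab_dual {H : Subgroup G} (w : Dual V) (h : H) :
    h ∈ stab ((dualRep (t := t) (V := V)).comp H.subtype) w ↔
      (h : G) ∈ CharApp.inertia V (fun x : V => ((w.toMul x : ℂˣ) : ℂ)) := by
  rw [mem_stab, CharApp.mem_inertia, funext_iff]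
  constructor
  · intro e x
    rw [CliffordChar.conjFun_apply]
    have := congrArg (fun w : Dual V => ((w.toMul x : ℂˣ) : ℂ)) e
    refine Eq.trans ?_ this
    show ((w.toMul _ : ℂˣ) : ℂ) = ((w.toMul (MulAut.conjNormal (H := V) (h : G)⁻¹ x) : ℂˣ) : ℂ)
    congr 2
    exact Subtype.ext (by simp)
  · intro e
    refine Additive.toMul.injective (MonoidHom.ext fun x => Units.ext ?_)
    refine Eq.trans ?_ (e x)
    rw [CliffordChar.conjFun_apply]
    show ((w.toMul (MulAut.conjNormal (H := V) (h : G)⁻¹ x) : ℂˣ) : ℂ) = ((w.toMul _ : ℂˣ) : ℂ)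
    congr 2
    exact Subtype.ext (by simp)

theorem commute_of_dual_fixed (hVc : ∀ a ∈ V, ∀ b ∈ V, a * b = b * a) {g : G}
    (h : dualRep (t := t) (V := V) g = 1) {x : G} (hx : x ∈ V) : Commute g x := by
  have h1 : MulAut.conjNormal (H := V) g⁻¹ ⟨x, hx⟩ * (⟨x, hx⟩ : V)⁻¹ = 1 := dual_sep hVc fun μ => by
    have := congrArg (fun w : Dual V => w.toMul ⟨x, hx⟩) (LinearMap.congr_fun h (Additive.ofMul μ))
    rw [map_mul, map_inv μ, mul_inv_eq_one]
    exact this
  rw [mul_inv_eq_one] at h1
  have h2 : g⁻¹ * x * g = x := by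
    have := congrArg Subtype.val h1
    simpa using this
  show g * x = x * g
  calc g * x = g * (g⁻¹ * x * g) := by rw [h2]
    _ = x * g := by group

end rep

section core

variable {H : Type*} [Group H] [Finite H]

/-- A Sylow subgroup inside a normal subgroup of the stabiliser is normal and abelian. -/
theorem Good.normal_of_le_ker {s : ℕ} [Fact s.Prime] {T K : Subgroup H} [K.Normal] (h : Good s T)
    (hKT : K ≤ T) {P : Sylow s H} (hP : (P : Subgroup H) ≤ K) :
    (P : Subgroup H).Normal ∧ ∀ x ∈ (P : Subgroup H), ∀ y ∈ (P : Subgroup H), x * y = y * x := by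
  refine ⟨⟨fun x hx g => ?_⟩, fun x hx y hy => h.comm (hP.trans hKT) hx hy⟩
  have hle : ((g • P : Sylow s H) : Subgroup H) ≤ T := by
    intro y hy
    rw [Sylow.coe_subgroup_smul, Subgroup.mem_pointwise_smul_iff_inv_smul_mem] at hy
    have h1 := hP hy
    simp only [MulAut.smul_def, MulAut.conj_inv_apply] at h1
    have h2 := (inferInstance : K.Normal).conj_mem _ h1 g
    refine hKT ?_
    simpa [mul_assoc] using h2
  have hmem : g * x * g⁻¹ ∈ ((g • P : Sylow s H) : Subgroup H) := by
    rw [Sylow.coe_subgroup_smul, Subgroup.mem_pointwise_smul_iff_inv_smul_mem]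
    simpa [MulAut.smul_def, mul_assoc] using hx
  rwa [h.eq_of_le hle (hP.trans hKT)] at hmem

variable [hsolv : Group.IsSolvable H] {t : ℕ} [Fact t.Prime] {W : Type*} [AddCommGroup W]
  [Module (ZMod t) W] [Finite W]

/-- The core, for an action which need not be faithful. -/
theorem exists_degree_of_good (ρ : H →* Module.End (ZMod t) W) {q r m : ℕ} [Fact q.Prime]
    [Fact r.Prime] (hqr : q ≠ r) (hW : Nat.card W = t ^ m) (hnt : Nontrivial W)
    (hq : ∀ v : W, v ≠ 0 → Good q (stab ρ v)) (hr : ∀ v : W, v ≠ 0 → Good r (stab ρ v))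
    (hq' : ∃ P : Sylow q H, ¬ (P : Subgroup H) ≤ ρ.toHomUnits.ker)
    (hr' : ∃ P : Sylow r H, ¬ (P : Subgroup H) ≤ ρ.toHomUnits.ker) :
    ∃ χ : IrrCharacter H, q * r ∣ charDegree (χ : H → ℂ) := by
  set u := ρ.toHomUnits
  let π := QuotientGroup.mk' u.ker
  have hπ : Function.Surjective π := QuotientGroup.mk'_surjective _
  let σ : (H ⧸ u.ker) →* Module.End (ZMod t) W :=
    (Units.coeHom _).comp (QuotientGroup.kerLift u)
  have hσ : Function.Injective σ := Units.val_injective.comp (QuotientGroup.kerLift_injective u)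
  haveI : Group.IsSolvable (H ⧸ u.ker) := Group.isSolvable_of_surjective (f := π) hπ
  have hspr : ∀ {s : ℕ} [Fact s.Prime], (∀ v : W, v ≠ 0 → Good s (stab ρ v)) →
      (∃ P : Sylow s H, ¬ (P : Subgroup H) ≤ u.ker) → Spr σ s := by
    intro s _ hs ⟨P, hP⟩
    refine ⟨hσ, hnt, ?_, fun v hv => ?_⟩
    · by_contra hd
      refine hP fun x hx => (QuotientGroup.eq_one_iff x).1 ?_
      obtain ⟨k, hk⟩ := P.2 ⟨x, hx⟩
      have h1 : π x ^ s ^ k = 1 := by rw [← map_pow, show x ^ s ^ k = 1 from congrArg Subtype.val hk, map_one]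
      have h2 : π x ^ Nat.card (H ⧸ u.ker) = 1 := pow_card_eq_one'
      have := pow_gcd_eq_one.2 ⟨h1, h2⟩
      rwa [((Fact.out : s.Prime).coprime_iff_not_dvd.2 hd |>.pow_left k).gcd_eq_one, pow_one] at this
    · obtain ⟨Q, hQle, hQn, hQc⟩ := hs v hv
      have hst : ∀ x : H, π x ∈ stab σ v ↔ x ∈ stab ρ v := fun x => Iff.rfl
      refine ⟨Q.mapSurjective hπ, ?_, ?_, ?_⟩
      · rw [Sylow.coe_mapSurjective]
        rintro _ ⟨x, hx, rfl⟩
        exact (hst x).2 (hQle hx)
      · rw [Sylow.coe_mapSurjective]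
        intro y hy
        obtain ⟨x, rfl⟩ := hπ y
        exact Subgroup.le_normalizer_map π ⟨x, hQn ((hst x).1 hy), rfl⟩
      · rw [Sylow.coe_mapSurjective]
        rintro _ ⟨x, hx, rfl⟩ _ ⟨y, hy, rfl⟩
        rw [← map_mul, ← map_mul, hQc x hx y hy]
  obtain ⟨χ, hχ⟩ := (hspr hq hq').exists_degree (hspr hr hr') hqr hW
  refine ⟨⟨_, IsIrrCharacter.comp_surjective χ.2 π hπ⟩, ?_⟩
  have h1 := CharApp.DegreeSets.apply_one (IsIrrCharacter.comp_surjective χ.2 π hπ)
  rw [map_one π, CharApp.DegreeSets.apply_one χ.2, Nat.cast_inj] at h1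
  exact h1 ▸ hχ

end core

end Cfsg.Agent.ThreePrime
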