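import Cfsg.Agent.Lib.ThreePrime.Linear
import Cfsg.Agent.Lib.Solvable.Basic
import Cfsg.Agent.Lib.Solvable.Fitting
import Cfsg.Agent.Lib.Cores.Fitting
import Mathlib.GroupTheory.SpecificGroups.Cyclic
import Mathlib.Algebra.Module.ZMod
import Mathlib.LinearAlgebra.FreeModule.Finite.Matrix

/-!
The exceptional case: a normal two-group not centralised by the element of primitive order.

* `eq_one_of_step`, `commute_of_cyclic`
* `zpowers_normal_of_mem_cyclic`
* `mem_center_of_minimal`, `Spr.false_of_fermat`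
-/

set_option autoImplicit false
set_option linter.style.haveILetI false
set_option linter.unusedSectionVars false

namespace Cfsg.Agent.ThreePrime

open Module

section groups

variable {A : Type*} [Group A]

theorem eq_one_of_step {g x d : A} {k n : ℕ} (h : g * x * g⁻¹ = x * d) (hgd : g * d * g⁻¹ = d)
    (hg : g ^ k = 1) (hd : d ^ n = 1) (hcop : Nat.Coprime k n) : d = 1 := by
  have hstep : ∀ i : ℕ, g ^ i * x * (g ^ i)⁻¹ = x * d ^ i := by
    intro i
    induction i with
    | zero => simp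
    | succ i ih =>
      have hdi : g * d ^ i * g⁻¹ = d ^ i := by rw [← conj_pow, hgd]
      calc g ^ (i + 1) * x * (g ^ (i + 1))⁻¹ = g * (g ^ i * x * (g ^ i)⁻¹) * g⁻¹ := by
            rw [pow_succ']; group
        _ = (g * x * g⁻¹) * (g * d ^ i * g⁻¹) := by rw [ih]; group
        _ = x * d ^ (i + 1) := by rw [h, hdi, pow_succ', mul_assoc]
  have hk := hstep k
  rw [hg, one_mul, inv_one, mul_one, left_eq_mul] at hk
  have := pow_gcd_eq_one.2 ⟨hk, hd⟩
  rwa [hcop.gcd_eq_one, pow_one] at this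

/-- An element of odd order normalising a cyclic group with two-power automorphism group centralises
it. -/
theorem commute_of_cyclic [Finite A] (C : Subgroup A) [IsCyclic C] {i : ℕ}
    (hC : Nat.totient (Nat.card C) = 2 ^ i) {g : A}
    (hg : g ∈ Subgroup.normalizer (C : Set A)) {k : ℕ} (hk : g ^ k = 1) (hodd : Nat.Coprime k 2) :
    ∀ c ∈ C, Commute g c := by
  intro c hc
  set f := Subgroup.normalizerMonoidHom C with hf
  set n : Subgroup.normalizer (C : Set A) := ⟨g, hg⟩
  have h1 : f n ^ k = 1 := by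
    rw [← map_pow, show n ^ k = 1 from Subtype.ext hk, map_one]
  have h2 : f n ^ 2 ^ i = 1 := by
    rw [← hC, ← IsCyclic.card_mulAut C, pow_card_eq_one']
  have h3 := pow_gcd_eq_one.2 ⟨h1, h2⟩
  rw [Nat.Coprime.gcd_eq_one (hodd.pow_right i), pow_one] at h3
  have h4 : g * c * g⁻¹ = c := congrArg (fun e : MulAut C => ((e ⟨c, hc⟩ : C) : A)) h3
  exact mul_inv_eq_iff_eq_mul.1 h4

theorem zpowers_normal_of_mem_cyclic [Finite A] (F : Subgroup A) [F.Normal] [IsCyclic F] {a : A}
    (ha : a ∈ F) : (Subgroup.zpowers a).Normal := by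
  classical
  refine ⟨fun x hx g => ?_⟩
  haveI := Fintype.ofFinite F
  have hn : 0 < orderOf a := orderOf_pos a
  have hxF : x ∈ F := (Subgroup.zpowers_le.2 ha) hx
  have hxn : x ^ orderOf a = 1 := orderOf_dvd_iff_pow_eq_one.1 (orderOf_dvd_of_mem_zpowers hx)
  set y : F := ⟨g * x * g⁻¹, Subgroup.Normal.conj_mem inferInstance x hxF g⟩
  set b : F := ⟨a, ha⟩
  set S := (Finset.univ : Finset F).filter fun z => z ^ orderOf a = 1
  set T := (Finset.univ : Finset F).filter fun z => z ∈ Subgroup.zpowers b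
  have hTS : T ⊆ S := fun z hz => by
    simp only [T, S, Finset.mem_filter, Finset.mem_univ, true_and] at hz ⊢
    rw [← Subgroup.orderOf_mk a ha]
    exact orderOf_dvd_iff_pow_eq_one.1 (orderOf_dvd_of_mem_zpowers hz)
  have hT : T.card = orderOf a := by
    rw [← Subgroup.orderOf_mk a ha, ← Nat.card_zpowers b, Nat.card_eq_fintype_card,
      Fintype.card_subtype]
  have heq : T = S := Finset.eq_of_subset_of_card_le hTS (hT ▸ IsCyclic.card_pow_eq_one_le hn)
  have hy : y ∈ T := by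
    rw [heq]
    simp only [S, Finset.mem_filter, Finset.mem_univ, true_and]
    exact Subtype.ext (by simp [y, conj_pow, hxn])
  simp only [T, Finset.mem_filter, Finset.mem_univ, true_and] at hy
  obtain ⟨i, hi⟩ := Subgroup.mem_zpowers_iff.1 hy
  exact Subgroup.mem_zpowers_iff.2 ⟨i, congrArg Subtype.val hi⟩

/-- Normal subgroups properly inside a minimal normal two-group moved by `a` are central in it. -/
theorem mem_center_of_minimal [Finite A] {a : A} {k : ℕ} (ha : a ^ k = 1) (hk : Nat.Coprime k 2)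
    {X : Subgroup A} [X.Normal] (hX : IsPGroup 2 X) (hne : ∃ g ∈ X, ¬ Commute a g)
    (hmin : ∀ K : Subgroup A, K.Normal → K ≤ X → K ≠ X → ∀ g ∈ K, Commute a g)
    {K : Subgroup A} (hK : K.Normal) (hKX : K ≤ X) (hK' : K ≠ X) {c x : A} (hc : c ∈ K)
    (hx : x ∈ X) : Commute c x := by
  haveI := hK
  by_cases hC : X ⊓ Subgroup.centralizer (K : Set A) = X
  · exact (Subgroup.mem_centralizer_iff.1 (hC.ge hx).2 c hc)
  exfalso
  obtain ⟨g, hg, hga⟩ := hne
  have hcomm := hmin _ inferInstance inf_le_left hC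
  have hKa := hmin K hK hKX hK'
  set d := g⁻¹ * (a * g * a⁻¹) with hd
  have hdX : d ∈ X := mul_mem (inv_mem hg) (Subgroup.Normal.conj_mem inferInstance g hg a)
  have hdC : d ∈ Subgroup.centralizer (K : Set A) := by
    rw [Subgroup.mem_centralizer_iff]
    intro y hy
    -- `a` fixes `y` and `g y g⁻¹`
    have h1 : a * (g * y * g⁻¹) * a⁻¹ = g * y * g⁻¹ := by
      rw [mul_inv_eq_iff_eq_mul]
      exact (hKa _ (hK.conj_mem y hy g)).eq
    have h2 : a * y * a⁻¹ = y := mul_inv_eq_iff_eq_mul.2 (hKa y hy).eq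
    have h3 : (a * g * a⁻¹) * y * (a * g * a⁻¹)⁻¹ = g * y * g⁻¹ := by
      conv_lhs => rw [← h2]
      rw [← h1]; group
    calc y * d = g⁻¹ * (g * y * g⁻¹) * (a * g * a⁻¹) := by rw [hd]; group
      _ = g⁻¹ * ((a * g * a⁻¹) * y * (a * g * a⁻¹)⁻¹) * (a * g * a⁻¹) := by rw [h3]
      _ = d * y := by rw [hd]; group
  obtain ⟨i, hi⟩ := hX ⟨d, hdX⟩
  have hi' : d ^ 2 ^ i = 1 := congrArg Subtype.val hi
  have hd1 := eq_one_of_step (g := a) (x := g) (d := d) (by rw [hd]; group)
    (mul_inv_eq_iff_eq_mul.2 (hcomm d ⟨hdX, hdC⟩).eq) ha hi' (hk.pow_right i)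
  rw [hd, inv_mul_eq_one, eq_comm, mul_inv_eq_iff_eq_mul] at hd1
  exact hga hd1

/-- In a two-group a maximal subgroup contains all squares. -/
theorem sq_mem_of_coatom [Finite A] {X : Subgroup A} (hX : IsPGroup 2 X) (hne : X ≠ ⊥) :
    ∃ M : Subgroup A, M ≤ X ∧ M ≠ X ∧ ∀ x ∈ X, x ^ 2 ∈ M := by
  haveI : Nontrivial X := (Subgroup.nontrivial_iff_ne_bot X).2 hne
  obtain ⟨M, hM, -⟩ := (eq_top_or_exists_le_coatom (⊥ : Subgroup X)).resolve_left bot_ne_top
  haveI : Group.IsNilpotent X := hX.isNilpotent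
  haveI : M.Normal := Subgroup.NormalizerCondition.normal_of_coatom _ Group.normalizerCondition_of_isNilpotent hM
  refine ⟨M.map X.subtype, Subgroup.map_subtype_le M, fun h => hM.1 ?_, fun x hx => ?_⟩
  · exact Subgroup.map_injective X.subtype_injective (by
      rw [h, ← MonoidHom.range_eq_map, Subgroup.range_subtype])
  refine ⟨(⟨x, hx⟩ : X) ^ 2, ?_, rfl⟩
  by_contra hn
  set z : X := ⟨x, hx⟩
  have htop : M ⊔ Subgroup.zpowers (z ^ 2) = ⊤ :=
    hM.2 _ (lt_of_le_of_ne le_sup_left fun h => hn (h ▸ Subgroup.mem_sup_right (Subgroup.mem_zpowers _)))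
  obtain ⟨m', hm', w, hw, hmw⟩ := Subgroup.mem_sup_of_normal_left.1 (htop ▸ Subgroup.mem_top z)
  obtain ⟨i, rfl⟩ := Subgroup.mem_zpowers_iff.1 hw
  obtain ⟨k, hk⟩ := hX z
  set π := QuotientGroup.mk' M
  have h1 : π z = π z ^ (2 * i) := by
    conv_lhs => rw [← hmw]
    rw [map_mul, map_zpow, map_pow, show π m' = 1 from (QuotientGroup.eq_one_iff _).2 hm', one_mul,
      ← zpow_natCast, ← zpow_mul]
    rfl
  have h2 : π z ^ (2 ^ k : ℕ) = 1 := by rw [← map_pow, hk, map_one]
  have h3 : π z ^ (2 * i - 1) = 1 := by rw [zpow_sub, ← h1, zpow_one, mul_inv_cancel]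
  have h4 : ∀ n : ℕ, π z ^ (2 ^ n : ℕ) = 1 → π z = 1 := by
    intro n
    induction n with
    | zero => intro h; rwa [pow_zero, pow_one] at h
    | succ n ih =>
      intro h
      refine ih ?_
      have h5 : (π z ^ (2 ^ n : ℕ)) ^ (2 : ℤ) = 1 := by
        rw [zpow_ofNat, ← pow_mul, ← pow_succ]; exact h
      have h6 : (π z ^ (2 ^ n : ℕ)) ^ (2 * i - 1) = 1 := by
        rw [← zpow_natCast, ← zpow_mul, mul_comm, zpow_mul, h3, one_zpow]
      rw [zpow_sub, zpow_mul, h5, one_zpow, zpow_one, one_mul, inv_eq_one] at h6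
      exact h6
  refine hn ((QuotientGroup.eq_one_iff (N := M) _).1 ?_)
  show π (z ^ 2) = 1
  rw [map_pow, h4 k h2, one_pow]

end groups

section bound

variable {t : ℕ} [ht : Fact t.Prime] {V : Type*} [AddCommGroup V] [Module (ZMod t) V] [Finite V]
  {A : Type*} [Group A] [Finite A]

/-- Cosets modulo the centre give independent endomorphisms when commutators are signs. -/
theorem card_quot_le (ρ : A →* Module.End (ZMod t) V) {m : ℕ} (hV : Nat.card V = t ^ m)
    (hnt : Nontrivial V)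
    {X : Subgroup A} (Z : Subgroup X) [Z.Normal] (hsq : ∀ x : X, x ^ 2 ∈ Z)
    (hZ : ∀ x : X, (∀ y : X, ρ ((y * x * y⁻¹ : X) : A) = ρ (x : A)) → x ∈ Z)
    (hsign : ∀ x y : X, ρ ((y * x * y⁻¹ : X) : A) = ρ (x : A) ∨
      ρ ((y * x * y⁻¹ : X) : A) = (-1 : ZMod t) • ρ (x : A)) :
    Nat.card (X ⧸ Z) ≤ m * m := by
  classical
  haveI : Module.Finite (ZMod t) V := Module.Finite.of_finite
  have hfin : finrank (ZMod t) V = m := by
    have := Module.natCard_eq_pow_finrank (K := ZMod t) (V := V)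
    rw [hV, Nat.card_zmod] at this
    exact (Nat.pow_right_injective ht.out.two_le this).symm
  have hne : ∀ x : A, ρ x ≠ 0 := fun x h0 => by
    have h1 : ρ x⁻¹ * ρ x = 1 := by rw [← map_mul, inv_mul_cancel, map_one]
    rw [h0, mul_zero] at h1
    obtain ⟨v, hv⟩ := exists_ne (0 : V)
    exact hv (LinearMap.congr_fun h1 v).symm
  have huniq : ∀ (x : A) {a b : ZMod t}, a • ρ x = b • ρ x → a = b := fun x _ _ h =>
    smul_left_injective (ZMod t) (hne x) h
  have hex : ∀ x y : X, ∃ c : ZMod t, c * c = 1 ∧ ρ ((y * x * y⁻¹ : X) : A) = c • ρ (x : A) :=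
    fun x y => (hsign x y).elim (fun h => ⟨1, one_mul 1, by rw [one_smul, h]⟩)
      fun h => ⟨-1, by ring, h⟩
  choose c hc1 hc using hex
  let χ : X → (X →* ZMod t) := fun x =>
    { toFun := c x
      map_one' := huniq (x : A) (by rw [← hc x 1, one_smul]; simp)
      map_mul' := fun y y' => huniq (x : A) (by
        rw [← hc x (y * y'), show ((y * y') * x * (y * y')⁻¹ : X) = y * (y' * x * y'⁻¹) * y⁻¹ by group,
          Subgroup.coe_mul, Subgroup.coe_mul, map_mul, map_mul, hc x y', mul_smul_comm, smul_mul_assoc,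
          ← map_mul, ← map_mul, ← Subgroup.coe_mul, ← Subgroup.coe_mul, hc x y, smul_smul, mul_comm]) }
  haveI := Fintype.ofFinite (X ⧸ Z)
  let rep : X ⧸ Z → X := fun w => w.out
  have hinj : Function.Injective fun w => χ (rep w) := by
    intro w w' h
    have hmem : rep w * rep w' ∈ Z := hZ _ fun y => by
      have e : c (rep w) y = c (rep w') y := DFunLike.congr_fun h y
      rw [show (y * (rep w * rep w') * y⁻¹ : X) = (y * rep w * y⁻¹) * (y * rep w' * y⁻¹) by group,
        Subgroup.coe_mul, map_mul, hc, hc, smul_mul_smul_comm, e, hc1, one_smul, ← map_mul,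
        ← Subgroup.coe_mul]
    have h2 : rep w * (rep w')⁻¹ ∈ Z := by
      have := Z.mul_mem hmem (Z.inv_mem (hsq (rep w')))
      rwa [show rep w * rep w' * (rep w' ^ 2)⁻¹ = rep w * (rep w')⁻¹ by rw [pow_two]; group] at this
    rw [← QuotientGroup.out_eq' w, ← QuotientGroup.out_eq' w']
    rw [QuotientGroup.eq]
    have h3 := (inferInstance : Z.Normal).conj_mem _ h2 (rep w)⁻¹
    rw [inv_inv, show (rep w)⁻¹ * (rep w * (rep w')⁻¹) * rep w = (rep w')⁻¹ * rep w by group] at h3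
    simpa using Z.inv_mem h3
  have hlin : LinearIndependent (ZMod t) fun w => ρ ((rep w : X) : A) := by
    rw [Fintype.linearIndependent_iff]
    intro g hg w
    have hdede := (linearIndependent_monoidHom X (ZMod t)).comp _ hinj
    rw [Fintype.linearIndependent_iff] at hdede
    have key : g w • ρ ((rep w : X) : A) = 0 := by
      refine LinearMap.ext fun v => (Module.forall_dual_apply_eq_zero_iff (ZMod t) _).1 fun φ => ?_
      have := hdede (fun w => g w * φ (ρ ((rep w : X) : A) v)) ?_ w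
      · rw [LinearMap.smul_apply, map_smul, smul_eq_mul]; exact this
      funext y
      have h1 : ∑ w, g w • ρ ((y * rep w * y⁻¹ : X) : A) = 0 := by
        have := congrArg (fun f => ρ (y : A) * f * ρ ((y⁻¹ : X) : A)) hg
        simp only [Finset.mul_sum, Finset.sum_mul, mul_zero, zero_mul, mul_smul_comm, smul_mul_assoc,
          ← map_mul, ← Subgroup.coe_mul] at this
        exact this
      have h2 := congrArg (fun f : Module.End (ZMod t) V => φ (f v)) h1
      simp only [hc, smul_smul, LinearMap.sum_apply, LinearMap.smul_apply, map_sum, map_smul,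
        smul_eq_mul, LinearMap.zero_apply, map_zero] at h2
      simp only [Finset.sum_apply, Pi.smul_apply, smul_eq_mul, Pi.zero_apply, Function.comp_apply]
      rw [← h2]
      refine Finset.sum_congr rfl fun w _ => ?_
      show g w * φ (ρ ((rep w : X) : A) v) * c (rep w) y = _
      ring
    exact (smul_eq_zero.1 key).resolve_right (hne _)
  have := hlin.fintype_card_le_finrank
  rwa [Module.finrank_linearMap, hfin, ← Nat.card_eq_fintype_card] at this

end bound

theorem primitive_two {j : ℕ} {ℓ : ℕ} (hℓ : ℓ.Prime) (hj : ℓ = 2 ^ j + 1) :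
    Ppd 2 (2 * j) ℓ := by
  refine ⟨hℓ, ⟨2 ^ j - 1, ?_⟩, fun i hi0 hi hd => ?_⟩
  · rw [hj, two_mul, pow_add, ← Nat.sq_sub_sq]; ring_nf
  have h2 : (2 : ZMod ℓ) ^ j = -1 := by
    rw [eq_neg_iff_add_eq_zero]
    have : ((2 ^ j + 1 : ℕ) : ZMod ℓ) = 0 := by rw [← hj, ZMod.natCast_self]
    exact_mod_cast this
  have h3 : (2 : ZMod ℓ) ^ i = 1 := by
    have : ((2 ^ i - 1 : ℕ) : ZMod ℓ) = 0 := (ZMod.natCast_eq_zero_iff _ _).2 hd
    rw [Nat.cast_sub Nat.one_le_two_pow, sub_eq_zero] at this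
    exact_mod_cast this
  rcases Nat.lt_or_ge j i with hji | hij
  · obtain ⟨k, rfl⟩ : ∃ k, i = j + k := ⟨i - j, by omega⟩
    rw [pow_add, h2] at h3
    have : ((2 ^ k + 1 : ℕ) : ZMod ℓ) = 0 := by push_cast; linear_combination -h3
    have hle := Nat.le_of_dvd (Nat.succ_pos _) ((ZMod.natCast_eq_zero_iff _ _).1 this)
    have : 2 ^ k < 2 ^ j := Nat.pow_lt_pow_right (by norm_num) (by omega)
    omega
  · have hle := Nat.le_of_dvd (by have := Nat.one_lt_two_pow hi0.ne'; omega) hd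
    have : 2 ^ i ≤ 2 ^ j := Nat.pow_le_pow_right (by norm_num) hij
    have := Nat.one_le_two_pow (n := i)
    omega

theorem two_pow_sylow_even {t m e n : ℕ} (ht : Odd t) (ht1 : 1 < t) {i : ℕ} (hm : m = 2 ^ i) (he : e ∣ m)
    (he0 : 0 < e) (hem : e < m) (hc : t ^ m - 1 = n * (t ^ e - 1)) : 2 ∣ n := by
  subst hm
  obtain ⟨k, hk, rfl⟩ := (Nat.dvd_prime_pow Nat.prime_two).1 he
  have hki : k < i := (Nat.pow_lt_pow_iff_right (by norm_num)).1 hem
  obtain ⟨i', rfl⟩ : ∃ i', i = i' + 1 := ⟨i - 1, by omega⟩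
  set h := 2 ^ i' with hh
  have hd : 2 ^ k ∣ h := pow_dvd_pow 2 (by omega)
  obtain ⟨c, hc'⟩ := Nat.pow_sub_one_dvd_pow_sub_one t hd
  have hsq : t ^ 2 ^ (i' + 1) - 1 = (t ^ h + 1) * (t ^ h - 1) := by
    rw [← Nat.sq_sub_sq, one_pow, ← pow_mul, hh, ← pow_succ]
  rw [hsq, hc'] at hc
  have hpos : 0 < t ^ 2 ^ k - 1 := by
    have := Nat.one_lt_pow (pow_ne_zero k (by norm_num : (2:ℕ) ≠ 0)) ht1
    omega
  have hn : n = (t ^ h + 1) * c := by
    refine Nat.eq_of_mul_eq_mul_right hpos ?_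
    rw [← hc]; ring
  rw [hn]
  exact dvd_mul_of_dvd_left (even_iff_two_dvd.1 ((ht.pow).add_one)) _

section main

variable {t : ℕ} [ht : Fact t.Prime] {V : Type*} [AddCommGroup V] [Module (ZMod t) V] [Finite V]
  {A : Type*} [Group A] [Finite A] {ρ : A →* Module.End (ZMod t) V} {q : ℕ} [hq : Fact q.Prime]

theorem Spr.false_of_fermat [Group.IsSolvable A] {m ℓ : ℕ} (h : Spr ρ q) (hl : Ppd t m ℓ)
    (hV : Nat.card V = t ^ m) {a : A} (ha : orderOf a = ℓ) {j : ℕ} (hj : ℓ = 2 ^ j + 1)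
    (ht2 : t ≠ 2) (N : Subgroup A) [N.Normal] (hN : IsPGroup 2 N)
    (hne : ∃ g ∈ N, ¬ Commute a g) : False := by
  classical
  haveI := h.nt
  haveI := Fact.mk hl.prime
  have hρa : ρ a ^ ℓ = 1 := by rw [← map_pow, ← ha, pow_orderOf_eq_one, map_one]
  have hρa1 : ρ a ≠ 1 := fun h1 => hl.prime.ne_one (by
    rw [← ha, h.inj (h1.trans (map_one ρ).symm), orderOf_one])
  have hodd : Odd t := ht.out.odd_of_ne_two ht2
  -- the Sylow number is even
  obtain ⟨P₀⟩ : Nonempty (Sylow q A) := inferInstance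
  obtain ⟨e, -, he0, hem, hed, hcount⟩ := h.count hV P₀
  have hm0 : 0 < m := by omega
  obtain ⟨i, hij, rfl⟩ := (Nat.dvd_prime_pow Nat.prime_two).1
    (show m ∣ 2 ^ j by have := hl.dvd_sub_one ht.out hm0; rwa [hj, Nat.add_sub_cancel] at this)
  have hq2 : q ≠ 2 := by
    intro h2
    subst h2
    have h1 := card_sylow_modEq_one 2 A
    have h3 := two_pow_sylow_even hodd ht.out.one_lt rfl hed he0 hem hcount
    rw [Nat.ModEq] at h1
    omega
  have hi1 : i ≠ 0 := fun h0 => by rw [h0, pow_zero] at hem; omega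
  have hj0 : 0 < j := by omega
  have hℓodd : Nat.Coprime ℓ 2 := by
    rw [hl.prime.coprime_iff_not_dvd]
    intro hd
    have := Nat.le_of_dvd (by norm_num) hd
    have := Nat.one_lt_two_pow hj0.ne'
    omega
  -- a minimal moved two-subgroup
  obtain ⟨X, ⟨hXn, hX, hXne⟩, hXmin⟩ := wellFounded_lt.has_min
    {K : Subgroup A | K.Normal ∧ IsPGroup 2 K ∧ ∃ g ∈ K, ¬ Commute a g} ⟨N, ‹_›, hN, hne⟩
  haveI : X.Normal := hXn
  have hmin : ∀ K : Subgroup A, K.Normal → K ≤ X → K ≠ X → ∀ g ∈ K, Commute a g :=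
    fun K hK hKX hK' g hg => by_contra fun hc =>
      hXmin K ⟨hK, hX.to_le hKX, g, hg, hc⟩ (lt_of_le_of_ne hKX hK')
  have haℓ : a ^ ℓ = 1 := ha ▸ pow_orderOf_eq_one a
  have hcen : ∀ K : Subgroup A, K.Normal → K ≤ X → K ≠ X → ∀ c ∈ K, ∀ x ∈ X, Commute c x :=
    fun K hK h1 h2 c hc x hx => mem_center_of_minimal haℓ hℓodd hX hXne hmin hK h1 h2 hc hx
  obtain ⟨x0, hx0, y0, hy0, hxy0⟩ : ∃ x ∈ X, ∃ y ∈ X, ¬ Commute x y := by
    rcases hl.commute_or_fermat ρ hV h.inj ha Nat.prime_two X hX with h1 | ⟨-, -, -, h4⟩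
    · obtain ⟨g, hg, hga⟩ := hXne; exact absurd (h1 g hg) hga
    · exact h4
  have hXbot : X ≠ ⊥ := fun h0 => by
    rw [h0, Subgroup.mem_bot] at hx0
    exact hxy0 (hx0 ▸ Commute.one_left y0)
  set Xc := X ⊓ Subgroup.centralizer (X : Set A) with hXc
  have hXcn : Xc.Normal := inferInstance
  have hXcne : Xc ≠ X := fun h0 =>
    hxy0 (Subgroup.mem_centralizer_iff.1 (h0.ge hy0).2 x0 hx0)
  have hXca : ∀ z ∈ Xc, Commute a z := hmin Xc hXcn inf_le_left hXcne
  haveI : IsCyclic Xc := hl.isCyclic_of_commute hV hρa hρa1 (ρ.comp Xc.subtype)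
    (h.inj.comp Xc.subtype_injective) fun z => (hXca z z.2).map ρ
  obtain ⟨kc, hkc⟩ : ∃ k, Nat.totient (Nat.card Xc) = 2 ^ k := by
    obtain ⟨k, hk⟩ := (hX.to_le (inf_le_left : Xc ≤ X)).exists_card_eq
    rcases Nat.eq_zero_or_pos k with h0 | h0
    · exact ⟨0, by rw [hk, h0, pow_zero, Nat.totient_one]⟩
    · exact ⟨k - 1, by rw [hk, Nat.totient_prime_pow Nat.prime_two h0]; simp⟩
  have hmemXc : ∀ {c}, c ∈ X → (∀ x ∈ X, Commute c x) → c ∈ Xc := fun hc hcx =>
    ⟨hc, Subgroup.mem_centralizer_iff.2 fun x hx => (hcx x hx).eq.symm⟩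
  -- commutators and squares are central
  have hD := Solvable.commutator_lt_of_solvable hXbot
  have hcomm : ∀ x ∈ X, ∀ y ∈ X, x * y * x⁻¹ * y⁻¹ ∈ Xc := fun x hx y hy =>
    hmemXc (hD.le (Subgroup.commutator_mem_commutator hx hy))
      (hcen _ inferInstance hD.le hD.ne _ (Subgroup.commutator_mem_commutator hx hy))
  obtain ⟨M, hMX, hMne, hMsq⟩ := sq_mem_of_coatom hX hXbot
  have hsq : ∀ x ∈ X, x ^ 2 ∈ Xc := by
    set T := Subgroup.closure ((fun x => x ^ 2) '' (X : Set A)) with hT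
    have hTM : T ≤ M := (Subgroup.closure_le _).2 fun y hy => by
      obtain ⟨x, hx, rfl⟩ := hy
      exact hMsq x hx
    have hTn : T.Normal := ⟨fun y hy g => by
      have hle : T ≤ T.comap (MulAut.conj g).toMonoidHom := (Subgroup.closure_le _).2 fun z hz => by
        obtain ⟨x, hx, rfl⟩ := hz
        exact Subgroup.subset_closure ⟨g * x * g⁻¹, hXn.conj_mem x hx g, by simp [conj_pow]⟩
      exact hle hy⟩
    have hTne : T ≠ X := fun h0 => hMne (le_antisymm hMX (h0 ▸ hTM))
    intro x hx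
    have hmem : x ^ 2 ∈ T := Subgroup.subset_closure ⟨x, hx, rfl⟩
    exact hmemXc (hMX (hTM hmem)) (hcen T hTn (hTM.trans hMX) hTne _ hmem)
  -- the signs
  have hsign : ∀ x y : X, ρ ((y * x * y⁻¹ : X) : A) = ρ (x : A) ∨
      ρ ((y * x * y⁻¹ : X) : A) = (-1 : ZMod t) • ρ (x : A) := by
    intro x y
    set c : A := (y : A) * x * (y : A)⁻¹ * (x : A)⁻¹ with hc
    have hcX := hcomm _ y.2 _ x.2
    have hc2 : c ^ 2 = 1 := by
      have hcy : (y : A) * c = c * y := Subgroup.mem_centralizer_iff.1 hcX.2 _ y.2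
      have hy2 : (x : A) * (y : A) ^ 2 = (y : A) ^ 2 * x :=
        Subgroup.mem_centralizer_iff.1 (hsq _ y.2).2 _ x.2
      calc c ^ 2 = c * ((y : A) * x * (y : A)⁻¹ * (x : A)⁻¹) := by rw [pow_two, hc]
        _ = (c * y) * x * (y : A)⁻¹ * (x : A)⁻¹ := by group
        _ = ((y : A) * c) * x * (y : A)⁻¹ * (x : A)⁻¹ := by rw [hcy]
        _ = (y : A) ^ 2 * x * ((y : A) ^ 2)⁻¹ * (x : A)⁻¹ := by rw [hc, pow_two]; group
        _ = 1 := by rw [← hy2]; group
    have hdec : ((y * x * y⁻¹ : X) : A) = c * x := by rw [hc]; simp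
    rw [hdec, map_mul]
    have hcm : Commute (ρ a) (ρ c - 1) := ((hXca _ hcX).map ρ).sub_right (Commute.one_right _)
    have hprod : (ρ c + 1) * (ρ c - 1) = 0 := by
      rw [add_mul, mul_sub, mul_sub, ← map_mul, ← pow_two, hc2, map_one, mul_one, mul_one, one_mul]
      abel
    rcases hl.injective_or_zero hV hρa hρa1 hcm with h1 | h1
    · left; rw [sub_eq_zero.1 h1, one_mul]
    · right
      have hneg : ρ c = -1 := by
        rw [← add_eq_zero_iff_eq_neg]
        refine LinearMap.ext fun v => h1 ?_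
        have : ((ρ c - 1) * (ρ c + 1)) v = 0 := by
          rw [show (ρ c - 1) * (ρ c + 1) = (ρ c + 1) * (ρ c - 1) by noncomm_ring, hprod]; rfl
        rw [LinearMap.zero_apply, map_zero]
        exact this
      rw [hneg, neg_one_mul, neg_one_smul]
  -- the quotient
  set Z := Xc.subgroupOf X with hZdef
  haveI : Z.Normal := hXcn.subgroupOf X
  have hbound := card_quot_le ρ hV h.nt Z
    (fun x => Subgroup.mem_subgroupOf.2 (by rw [Subgroup.coe_pow]; exact hsq _ x.2))
    (fun x hx => Subgroup.mem_subgroupOf.2 (hmemXc x.2 fun y hy => by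
      have := h.inj (hx ⟨y, hy⟩)
      exact (mul_inv_eq_iff_eq_mul.1 (by simpa using this) : y * x = x * y).symm))
    hsign
  have hWsq : ∀ w : X ⧸ Z, w * w = 1 := fun w => by
    induction w using QuotientGroup.induction_on with
    | H x =>
      rw [← QuotientGroup.mk_mul, QuotientGroup.eq_one_iff, ← pow_two, Subgroup.mem_subgroupOf,
        Subgroup.coe_pow]
      exact hsq _ x.2
  have hWcomm : ∀ u w : X ⧸ Z, u * w = w * u := fun u w => by
    have h1 := hWsq u
    have h2 := hWsq w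
    have h3 := hWsq (u * w)
    rw [← eq_inv_iff_mul_eq_one] at h1 h2 h3
    rw [h3, mul_inv_rev, ← h1, ← h2]
  letI : CommGroup (X ⧸ Z) := { (inferInstance : Group (X ⧸ Z)) with mul_comm := hWcomm }
  letI : Module (ZMod 2) (Additive (X ⧸ Z)) := AddCommGroup.zmodModule fun w => by
    rw [two_nsmul]; exact congrArg Additive.ofMul (hWsq w.toMul)
  obtain ⟨w, hw⟩ := ((hX.to_quotient Z)).exists_card_eq
  have hW : Nat.card (Additive (X ⧸ Z)) = 2 ^ w := hw
  have hw2j : w ≤ 2 * j := by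
    rw [← Nat.pow_le_pow_iff_right (le_refl 2), ← hw, two_mul, pow_add]
    exact hbound.trans (Nat.mul_le_mul (Nat.pow_le_pow_right (by norm_num) hij)
      (Nat.pow_le_pow_right (by norm_num) hij))
  have hmapZ : ∀ g : A, Z ≤ Z.comap (MulAut.conjNormal (H := X) g).toMonoidHom := fun g x hx => by
    show (MulAut.conjNormal (H := X) g x) ∈ Z
    rw [hZdef, Subgroup.mem_subgroupOf, MulAut.conjNormal_apply]
    exact hXcn.conj_mem _ (Subgroup.mem_subgroupOf.1 hx) g
  let φ : A → (X ⧸ Z) →* (X ⧸ Z) := fun g => QuotientGroup.map Z Z _ (hmapZ g)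
  let σ : A →* Module.End (ZMod 2) (Additive (X ⧸ Z)) :=
    { toFun := fun g => (MonoidHom.toAdditive (φ g)).toZModLinearMap 2
      map_one' := LinearMap.ext fun u => by
        obtain ⟨x, hx⟩ := QuotientGroup.mk_surjective u.toMul
        rw [← ofMul_toMul u, ← hx]
        exact congrArg (fun z : X => Additive.ofMul (z : X ⧸ Z)) (Subtype.ext (by simp))
      map_mul' := fun g g' => LinearMap.ext fun u => by
        obtain ⟨x, hx⟩ := QuotientGroup.mk_surjective u.toMul
        rw [← ofMul_toMul u, ← hx]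
        exact congrArg (fun z : X => Additive.ofMul (z : X ⧸ Z)) (Subtype.ext (by simp [mul_assoc])) }
  have hσ1 : ∀ g : A, σ g = 1 → ∀ x ∈ X, x⁻¹ * (g * x * g⁻¹) ∈ Xc := fun g hg x hx => by
    have h1 : ((MulAut.conjNormal (H := X) g ⟨x, hx⟩ : X) : X ⧸ Z) = ((⟨x, hx⟩ : X) : X ⧸ Z) :=
      Additive.ofMul.injective (LinearMap.congr_fun hg (Additive.ofMul ((⟨x, hx⟩ : X) : X ⧸ Z)))
    have h2 := Subgroup.mem_subgroupOf.1 (QuotientGroup.eq.1 h1.symm)
    simpa using h2
  -- elements centralising the quotient and the centre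
  have hfix : ∀ (g : A) (k : ℕ), g ^ k = 1 → Nat.Coprime k 2 → σ g = 1 →
      (∀ z ∈ Xc, Commute g z) → ∀ x ∈ X, Commute g x := by
    intro g k hgk hk hg hgz x hx
    have hd := hσ1 g hg x hx
    obtain ⟨n, hn⟩ := hX ⟨_, hd.1⟩
    have := eq_one_of_step (g := g) (x := x) (d := x⁻¹ * (g * x * g⁻¹)) (by group)
      (mul_inv_eq_iff_eq_mul.2 (hgz _ hd).eq) hgk (congrArg Subtype.val hn) (hk.pow_right n)
    rw [inv_mul_eq_one, eq_comm, mul_inv_eq_iff_eq_mul] at this
    exact this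
  have hσa : σ a ≠ 1 := fun h1 => by
    obtain ⟨g, hg, hga⟩ := hXne
    exact hga (hfix a ℓ haℓ hℓodd h1 hXca g hg)
  have hσaℓ : σ a ^ ℓ = 1 := by rw [← map_pow, haℓ, map_one]
  -- its order
  have hl2 : Ppd 2 (2 * j) ℓ := primitive_two hl.prime hj
  have hW2 : Nat.card (Additive (X ⧸ Z)) = 2 ^ (2 * j) := by
    obtain ⟨f, hf, hcK, htop, -⟩ := exists_card_submodule hW (LinearMap.ker (σ a - 1))
    have hmod := card_modEq_fixed (σ a) (s := ℓ) (k := 1) (by rwa [pow_one])
      (⊤ : Submodule (ZMod 2) (Additive (X ⧸ Z))) (fun _ _ => Submodule.mem_top)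
    rw [top_inf_eq, hcK, Nat.card_congr (Equiv.subtypeUnivEquiv fun _ => Submodule.mem_top), hW] at hmod
    have hfw : f < w := lt_of_le_of_ne hf fun h0 =>
      hσa (sub_eq_zero.1 (LinearMap.ker_eq_top.1 (htop h0)))
    rw [show w = f + (w - f) by omega, pow_add] at hmod
    have hmod' : 2 ^ (w - f) ≡ 1 [MOD ℓ] :=
      Nat.ModEq.cancel_left_of_coprime ((hℓodd.pow_right f))
        (by rw [mul_one]; exact hmod)
    rcases hl2.exp_eq (by norm_num) (show w - f ≤ 2 * j by omega) hmod' with h0 | h0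
    · omega
    · rw [hW]; congr 1; omega
  -- `a` centralises the Fitting subgroup of the image
  set σu := σ.toHomUnits
  let π := QuotientGroup.mk' σu.ker
  let σb : (A ⧸ σu.ker) →* Module.End (ZMod 2) (Additive (X ⧸ Z)) :=
    (Units.coeHom _).comp (QuotientGroup.kerLift σu)
  have hσb : Function.Injective σb := Units.val_injective.comp (QuotientGroup.kerLift_injective σu)
  have hσbπ : ∀ g, σb (π g) = σ g := fun g => rfl
  have hπa : orderOf (π a) = ℓ := orderOf_eq_prime (by rw [← map_pow, haℓ, map_one]) fun h1 =>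
    hσa (by rw [← hσbπ, h1, map_one])
  haveI : Group.IsSolvable (A ⧸ σu.ker) := Group.isSolvable_of_surjective (f := π) QuotientGroup.mk_surjective
  set F := Cfsg.fittingSubgroup (A ⧸ σu.ker)
  have hFc : F ≤ Subgroup.centralizer {π a} := by
    rw [show F = _ from Cores.fittingSubgroup_eq_iSup_pCore]
    refine iSup_le fun p g hg => ?_
    haveI := Fact.mk p.2
    haveI := Cores.pCore_normal (p : ℕ) (A ⧸ σu.ker)
    rcases hl2.commute_or_fermat σb hW2 hσb hπa p.2 (Cfsg.pCore (p : ℕ) (A ⧸ σu.ker))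
      (Cores.isPGroup_pCore _ _) with h1 | ⟨-, h2, -⟩
    · exact Subgroup.mem_centralizer_singleton_iff.2 (h1 g hg).eq.symm
    · exact absurd rfl h2
  have haF : π a ∈ F := Solvable.centralizer_fitting_le _
    (Subgroup.mem_centralizer_iff.2 fun g hg => Subgroup.mem_centralizer_singleton_iff.1 (hFc hg))
  haveI : F.Normal := Subgroup.sSup_normal _ fun _ h => h.1
  haveI : IsCyclic F := hl2.isCyclic_of_commute hW2 hσaℓ hσa (σb.comp F.subtype)
    (hσb.comp F.subtype_injective) fun g => by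
      show Commute (σb (π a)) (σb g)
      exact (Subgroup.mem_centralizer_singleton_iff.1 (hFc g.2) :
        (g : A ⧸ σu.ker) * π a = π a * g).symm |> fun h => (show Commute (π a) g from h).map σb
  haveI : (Subgroup.zpowers (π a)).Normal := zpowers_normal_of_mem_cyclic F haF
  set B := (Subgroup.zpowers (π a)).comap π with hB
  haveI : B.Normal := Subgroup.Normal.comap inferInstance π
  have hBc : Nat.card B = Nat.card σu.ker * ℓ := by
    have h1 := Solvable.card_eq_card_map_mul π B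
    rw [hB, Subgroup.map_comap_eq_self_of_surjective QuotientGroup.mk_surjective, Nat.card_zpowers,
      hπa, QuotientGroup.ker_mk', inf_eq_right.2 (QuotientGroup.le_comap_mk' _ _)] at h1
    rw [hB, h1, mul_comm]
  -- no element of order `ℓ` in the kernel
  have hℓD : ¬ ℓ ∣ Nat.card σu.ker := by
    intro hd
    obtain ⟨b, hb⟩ := exists_prime_orderOf_dvd_card' ℓ hd
    have hb' : orderOf (b : A) = ℓ := by rw [Subgroup.orderOf_coe, hb]
    have hbz : ∀ z ∈ Xc, Commute (b : A) z := by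
      rcases hl.commute_or_fermat ρ hV h.inj hb' Nat.prime_two Xc (hX.to_le inf_le_left) with
        h1 | ⟨-, -, -, x, hx, y, hy, hxy⟩
      · exact h1
      · exact absurd (Subgroup.mem_centralizer_iff.1 hy.2 x hx.1) hxy
    have hbℓ : (b : A) ^ ℓ = 1 := hb' ▸ pow_orderOf_eq_one _
    have hbX := hfix b ℓ hbℓ hℓodd (congrArg Units.val b.2) hbz
    exact hxy0 (Commute.of_map h.inj (hl.commute_of_commute hV
      (by rw [← map_pow, hbℓ, map_one])
      (fun h1 => hl.prime.ne_one (by rw [← hb', h.inj (h1.trans (map_one ρ).symm), orderOf_one]))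
      ((hbX x0 hx0).map ρ) ((hbX y0 hy0).map ρ)))
  -- Frattini
  have haB : Subgroup.zpowers a ≤ B := Subgroup.zpowers_le.2 (Subgroup.mem_zpowers (π a))
  have hSy : IsPGroup ℓ ((Subgroup.zpowers a).subgroupOf B) :=
    IsPGroup.of_card (n := 1) (by
      rw [Nat.card_congr (Subgroup.subgroupOfEquivOfLe haB).toEquiv, Nat.card_zpowers, ha, pow_one])
  have hidx : ¬ ℓ ∣ ((Subgroup.zpowers a).subgroupOf B).index := by
    have h1 := ((Subgroup.zpowers a).subgroupOf B).index_mul_card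
    rw [Nat.card_congr (Subgroup.subgroupOfEquivOfLe haB).toEquiv, Nat.card_zpowers, ha, hBc] at h1
    rwa [Nat.eq_of_mul_eq_mul_right hl.prime.pos h1]
  have hfr := Sylow.normalizer_sup_eq_top (hSy.toSylow hidx)
  rw [IsPGroup.toSylow_coe, Subgroup.map_subgroupOf_eq_of_le haB] at hfr
  set Na := Subgroup.normalizer ((Subgroup.zpowers a : Subgroup A) : Set A)
  have hQcard : Nat.card (A ⧸ σu.ker) ∣ Nat.card Na := by
    refine Subgroup.card_dvd_of_surjective (π.comp Na.subtype) fun u => ?_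
    have htop : Na.map π = ⊤ := by
      rw [eq_top_iff, ← Subgroup.map_top_of_surjective π QuotientGroup.mk_surjective, ← hfr,
        Subgroup.map_sup, sup_le_iff]
      refine ⟨le_rfl, ?_⟩
      rw [hB, Subgroup.map_comap_eq_self_of_surjective QuotientGroup.mk_surjective, Subgroup.zpowers_le]
      exact Subgroup.mem_map_of_mem π (Subgroup.le_normalizer (Subgroup.mem_zpowers a))
    obtain ⟨g, hg, hgu⟩ := Subgroup.mem_map.1 (htop ▸ Subgroup.mem_top u)
    exact ⟨⟨g, hg⟩, hgu⟩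
  have hqN : ¬ q ∣ Nat.card Na := by
    intro hd
    obtain ⟨y, hy⟩ := exists_prime_orderOf_dvd_card' q hd
    have hy' : orderOf (y : A) = q := by rw [Subgroup.orderOf_coe, hy]
    have hqc : Nat.Coprime q 2 := (Nat.coprime_primes hq.out Nat.prime_two).2 hq2
    have hyq : (y : A) ^ q = 1 := hy' ▸ pow_orderOf_eq_one _
    haveI : IsCyclic (Subgroup.zpowers a) := Subgroup.isCyclic_zpowers a
    have hya := commute_of_cyclic (Subgroup.zpowers a) (i := j)
      (by rw [Nat.card_zpowers, ha, Nat.totient_prime hl.prime, hj, Nat.add_sub_cancel]) y.2 hyq hqc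
      a (Subgroup.mem_zpowers a)
    obtain ⟨Q, hQ⟩ := (IsPGroup.of_card (n := 1)
      (by rw [Nat.card_zpowers, hy', pow_one]) : IsPGroup q (Subgroup.zpowers (y : A))).exists_le_sylow
    obtain ⟨v, hv, hvQ⟩ := h.exists_fixed Q
    rcases hl.injective_or_zero hV hρa hρa1
      ((hya.symm.map ρ).sub_right (Commute.one_right (ρ a))) with h1 | h1
    · exact hq.out.ne_one (by
        rw [← hy', h.inj (sub_eq_zero.1 h1 |>.trans (map_one ρ).symm), orderOf_one])
    · refine hv (h1 ?_)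
      rw [map_zero, LinearMap.sub_apply, Module.End.one_apply, sub_eq_zero]
      exact hvQ (hQ (Subgroup.mem_zpowers _))
  have hall : ∀ x ∈ X, ∀ Q : Sylow q A, ∀ y ∈ (Q : Subgroup A), Commute x y := by
    intro x hx Q y hy
    obtain ⟨n, hn⟩ := Q.2 ⟨y, hy⟩
    have hyn : y ^ q ^ n = 1 := congrArg Subtype.val hn
    have hqc : Nat.Coprime (q ^ n) 2 :=
      ((Nat.coprime_primes hq.out Nat.prime_two).2 hq2).pow_left n
    have hπy : π y = 1 := by
      have h1 : π y ^ q ^ n = 1 := by rw [← map_pow, hyn, map_one]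
      have h2 : π y ^ Nat.card (A ⧸ σu.ker) = 1 := pow_card_eq_one'
      have hcop : Nat.Coprime (q ^ n) (Nat.card (A ⧸ σu.ker)) :=
        (hq.out.coprime_iff_not_dvd.2 fun hd => hqN (hd.trans hQcard)).pow_left n
      have := pow_gcd_eq_one.2 ⟨h1, h2⟩
      rwa [hcop.gcd_eq_one, pow_one] at this
    exact (hfix y _ hyn hqc (by rw [← hσbπ, hπy, map_one])
      (commute_of_cyclic Xc hkc (by rw [Subgroup.normalizer_eq_top Xc]; exact Subgroup.mem_top y) hyn hqc)
      x hx).symm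
  exact hxy0 (h.abelian_of_commute (hall x0 hx0) (hall y0 hy0))

end main

end Cfsg.Agent.ThreePrime
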