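import Cfsg.Agent.Lib.ThreePrime.Dual

/-!
Linear characters of a normal subgroup as a set with operators, and an arithmetical lemma.

* `linConjAct`, `mem_stab_lin`, `linFix`, `exists_lin_ne_one`
* `not_pow_count`
-/

set_option autoImplicit false
set_option linter.style.haveILetI false
set_option linter.unusedSectionVars false

namespace Cfsg.Agent.ThreePrime

open Cfsg Cfsg.Agent.Char

variable {G : Type*} [Group G] [Finite G] (N : Subgroup G) [N.Normal] (H : Subgroup G)

/-- The action on linear characters. -/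
@[reducible] def linConjAct : MulAction H (N →* ℂˣ) where
  smul h l := l.comp (MulAut.conjNormal (H := N) (h : G)⁻¹).toMonoidHom
  one_smul l := MonoidHom.ext fun x => by
    show l (MulAut.conjNormal (H := N) ((1 : H) : G)⁻¹ x) = l x
    rw [OneMemClass.coe_one, inv_one, map_one]; rfl
  mul_smul g h l := MonoidHom.ext fun x => by
    show l (MulAut.conjNormal (H := N) ((g * h : H) : G)⁻¹ x) =
      l (MulAut.conjNormal (H := N) (h : G)⁻¹ (MulAut.conjNormal (H := N) (g : G)⁻¹ x))
    rw [Subgroup.coe_mul, mul_inv_rev, map_mul]; rfl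

/-- The stabiliser of a linear character. -/
def linStab (l : N →* ℂˣ) : Subgroup H :=
  @MulAction.stabilizer H (N →* ℂˣ) _ (linConjAct N H) l

theorem mem_linStab (l : N →* ℂˣ) (h : H) :
    h ∈ linStab N H l ↔ ∀ x : N, l ⟨(h : G)⁻¹ * x * h, by
      simpa using (inferInstance : N.Normal).conj_mem x x.2 (h : G)⁻¹⟩ = l x := by
  show l.comp (MulAut.conjNormal (H := N) (h : G)⁻¹).toMonoidHom = l ↔ _
  rw [MonoidHom.ext_iff]
  refine forall_congr' fun x => ?_
  refine Eq.congr ?_ rfl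
  show l (MulAut.conjNormal (H := N) (h : G)⁻¹ x) = _
  congr 1
  exact Subtype.ext (by simp)

theorem linStab_eq (l : N →* ℂˣ) :
    linStab N H l = (CharApp.inertia N (fun x : N => ((l x : ℂˣ) : ℂ))).subgroupOf H := by
  ext h
  rw [mem_linStab, Subgroup.mem_subgroupOf, CharApp.mem_inertia, funext_iff]
  refine forall_congr' fun x => ?_
  rw [CliffordChar.conjFun_apply]
  exact Units.ext_iff

/-- The linear characters fixed by a subgroup. -/
def linFix (K : Subgroup H) : Subgroup (N →* ℂˣ) where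
  carrier := {l | K ≤ linStab N H l}
  one_mem' := fun h _ => (mem_linStab N H 1 h).2 fun x => rfl
  mul_mem' := fun {a b} ha hb h hh => (mem_linStab N H _ h).2 fun x => by
    rw [MonoidHom.mul_apply, MonoidHom.mul_apply, (mem_linStab N H a h).1 (ha hh) x,
      (mem_linStab N H b h).1 (hb hh) x]
  inv_mem' := fun {a} ha h hh => (mem_linStab N H _ h).2 fun x => by
    rw [MonoidHom.inv_apply, MonoidHom.inv_apply, (mem_linStab N H a h).1 (ha hh) x]

variable {N H}

theorem mem_linFix {K : Subgroup H} {l : N →* ℂˣ} : l ∈ linFix N H K ↔ K ≤ linStab N H l := Iff.rfl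

/-- Linear characters separate the elements outside the derived subgroup. -/
theorem exists_lin_ne_one {x : G} (hx : x ∈ N) (hne : x ∉ ⁅N, N⁆) :
    ∃ l : N →* ℂˣ, l ⟨x, hx⟩ ≠ 1 := by
  have h1 : (Abelianization.of (⟨x, hx⟩ : N)) ≠ 1 := fun h => hne (by
    have h2 : (⟨x, hx⟩ : N) ∈ commutator N := (QuotientGroup.eq_one_iff _).1 h
    rw [← N.map_subtype_commutator]
    exact ⟨_, h2, rfl⟩)
  obtain ⟨φ, hφ⟩ := CommGroup.exists_apply_ne_one_of_hasEnoughRootsOfUnity (Abelianization N) ℂ h1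
  exact ⟨φ.comp Abelianization.of, hφ⟩

/-- The two partitions cannot both be equal. -/
theorem not_pow_count {p n a c e g w f : ℕ} (hp : p.Prime) (hn : 1 < n) (hpn : ¬ p ∣ n)
    (ha : 0 < a) (hV : n * (p ^ c - 1) = p ^ a - 1) (hL : n * (p ^ e - p ^ g) = p ^ w - p ^ f)
    (hlt : a + f < w) : False := by
  have hfw : f < w := by omega
  have hp1 := hp.one_lt
  have hpow : ∀ {i j : ℕ}, i < j → p ^ i < p ^ j := fun h => Nat.pow_lt_pow_right hp1 h
  have hge : g < e := by
    by_contra hle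
    rw [Nat.sub_eq_zero_of_le (Nat.pow_le_pow_right hp.pos (not_lt.1 hle)), mul_zero] at hL
    have := hpow hfw
    omega
  obtain ⟨d, rfl⟩ : ∃ d, e = g + d := ⟨e - g, by omega⟩
  obtain ⟨b, rfl⟩ : ∃ b, w = f + b := ⟨w - f, by omega⟩
  rw [pow_add, pow_add, ← Nat.mul_sub_one, ← Nat.mul_sub_one] at hL
  have hnd : ∀ k, 0 < k → ¬ p ∣ p ^ k - 1 := fun k hk hd => by
    have h1 := Nat.dvd_sub (dvd_pow_self p hk.ne') hd
    rw [Nat.sub_sub_self (Nat.one_le_pow _ _ hp.pos)] at h1
    exact hp.ne_one (Nat.dvd_one.1 h1)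
  have hd0 : 0 < d := by omega
  have hgf : g = f := by
    rcases lt_trichotomy g f with h | h | h
    · exfalso
      obtain ⟨k, rfl⟩ : ∃ k, f = g + (k + 1) := ⟨f - g - 1, by omega⟩
      rw [pow_add _ g, mul_assoc, mul_left_comm] at hL
      have h2 := Nat.eq_of_mul_eq_mul_left (pow_pos hp.pos g) hL
      have h3 : p ∣ n * (p ^ d - 1) := h2 ▸ dvd_mul_of_dvd_left (dvd_pow_self p (Nat.succ_ne_zero k)) _
      rcases hp.dvd_mul.1 h3 with h4 | h4
      · exact hpn h4
      · exact hnd d hd0 h4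
    · exact h
    · exfalso
      obtain ⟨k, rfl⟩ : ∃ k, g = f + (k + 1) := ⟨g - f - 1, by omega⟩
      rw [pow_add _ f, mul_assoc, mul_left_comm] at hL
      have h2 := Nat.eq_of_mul_eq_mul_left (pow_pos hp.pos f) hL
      exact hnd b (by omega) (h2 ▸ dvd_mul_of_dvd_right
        (dvd_mul_of_dvd_left (dvd_pow_self p (Nat.succ_ne_zero k)) _) _)
  subst hgf
  rw [mul_left_comm] at hL
  have hW := Nat.eq_of_mul_eq_mul_left (pow_pos hp.pos g) hL
  have hab : a < b := by omega
  have hcd : c < d := by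
    by_contra hle
    have h1 := Nat.mul_le_mul_left n
      (Nat.sub_le_sub_right (Nat.pow_le_pow_right hp.pos (not_lt.1 hle)) 1)
    have := hpow hab
    have := Nat.one_le_pow a p hp.pos
    omega
  have hca : c < a := by
    by_contra hle
    have h1 := Nat.mul_le_mul_left n
      (Nat.sub_le_sub_right (Nat.pow_le_pow_right hp.pos (not_lt.1 hle)) 1)
    have h2 : 0 < p ^ a - 1 := by have := hpow ha; rw [pow_zero] at this; omega
    nlinarith
  have hdb : d ≤ b := by
    by_contra hle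
    have h1 : p ^ b - 1 < p ^ d - 1 := by
      have := hpow (not_le.1 hle); have := Nat.one_le_pow b p hp.pos; omega
    nlinarith
  -- `p ^ d` divides `n - 1`
  have hW' : ((n : ℤ)) * ((p : ℤ) ^ d - 1) = (p : ℤ) ^ b - 1 := by
    have := congrArg (Nat.cast (R := ℤ)) hW
    push_cast [Nat.one_le_pow _ _ hp.pos] at this
    exact this
  have hV' : ((n : ℤ)) * ((p : ℤ) ^ c - 1) = (p : ℤ) ^ a - 1 := by
    have := congrArg (Nat.cast (R := ℤ)) hV
    push_cast [Nat.one_le_pow _ _ hp.pos] at this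
    exact this
  have h1 : (p : ℤ) ^ (c + 1) ∣ (n : ℤ) - 1 :=
    (pow_dvd_pow (p : ℤ) (show c + 1 ≤ d by omega)).trans
      ⟨(n : ℤ) - (p : ℤ) ^ (b - d), by
        rw [mul_sub, ← pow_add, show d + (b - d) = b by omega]; linear_combination -hW'⟩
  have h2 : (p : ℤ) ^ (c + 1) ∣ (n : ℤ) * (p : ℤ) ^ c := by
    rw [show (n : ℤ) * (p : ℤ) ^ c = (p : ℤ) ^ a + ((n : ℤ) - 1) by linear_combination hV']
    exact dvd_add (pow_dvd_pow _ (by omega)) h1
  rw [pow_succ, mul_comm (n : ℤ)] at h2
  exact hpn (Int.natCast_dvd_natCast.1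
    ((mul_dvd_mul_iff_left (pow_ne_zero c (Int.natCast_ne_zero.2 hp.ne_zero))).1 h2))

end Cfsg.Agent.ThreePrime
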