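import Mathlib.GroupTheory.Sylow
import Mathlib.GroupTheory.GroupAction.Basic

/-!
Subgroups with a normal abelian Sylow subgroup of the whole group, and the resulting partitions.

* `Good`: `T` contains a Sylow `s`-subgroup of `A` as a normal abelian subgroup
* `Good.eq_of_le`: it is the only one
* `card_eq_card_sylow_mul`: a set in which every point is fixed by exactly one Sylow `s`-subgroup
-/

set_option autoImplicit false
set_option linter.style.haveILetI false

namespace Cfsg.Agent.ThreePrime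

variable {A : Type*} [Group A]

/-- `T` contains a Sylow `s`-subgroup of the whole group as a normal abelian subgroup. -/
def Good (s : ℕ) (T : Subgroup A) : Prop :=
  ∃ P : Sylow s A, (P : Subgroup A) ≤ T ∧ T ≤ Subgroup.normalizer ((P : Subgroup A) : Set A) ∧
    ∀ x ∈ (P : Subgroup A), ∀ y ∈ (P : Subgroup A), x * y = y * x

variable {s : ℕ}

theorem le_of_le_normalizer (P : Sylow s A) {Q : Subgroup A} (hQ : IsPGroup s Q)
    (h : Q ≤ Subgroup.normalizer ((P : Subgroup A) : Set A)) : Q ≤ (P : Subgroup A) :=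
  le_sup_left.trans (le_of_eq (P.3 (hQ.to_sup_of_normal_right' P.2 h) le_sup_right))

theorem mem_of_mem_normalizer (P : Sylow s A) {x : A} {k : ℕ} (hx : x ^ s ^ k = 1)
    (h : x ∈ Subgroup.normalizer ((P : Subgroup A) : Set A)) : x ∈ (P : Subgroup A) := by
  refine le_of_le_normalizer P (Q := Subgroup.zpowers x) ?_ (Subgroup.zpowers_le.2 h)
    (Subgroup.mem_zpowers x)
  rintro ⟨y, hy⟩
  obtain ⟨i, rfl⟩ := Subgroup.mem_zpowers_iff.1 hy
  refine ⟨k, Subtype.ext ?_⟩
  show (x ^ i) ^ s ^ k = 1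
  rw [← zpow_natCast, ← zpow_mul, mul_comm, zpow_mul, zpow_natCast, hx, one_zpow]

namespace Good

variable {T : Subgroup A} (h : Good s T)
include h

theorem eq_of_le {P P' : Sylow s A} (hP : (P : Subgroup A) ≤ T) (hP' : (P' : Subgroup A) ≤ T) :
    P = P' := by
  obtain ⟨P₀, -, hn, -⟩ := h
  have h1 : ∀ {Q : Sylow s A}, (Q : Subgroup A) ≤ T → Q = P₀ := fun {Q} hQ =>
    Sylow.ext (Q.3 P₀.2 (le_of_le_normalizer P₀ Q.2 (hQ.trans hn))).symm
  exact (h1 hP).trans (h1 hP').symm

theorem le_normalizer {P : Sylow s A} (hP : (P : Subgroup A) ≤ T) :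
    T ≤ Subgroup.normalizer ((P : Subgroup A) : Set A) := by
  obtain ⟨P₀, hle, hn, hc⟩ := h
  rw [Good.eq_of_le ⟨P₀, hle, hn, hc⟩ hP hle]
  exact hn

theorem comm {P : Sylow s A} (hP : (P : Subgroup A) ≤ T) {x y : A} (hx : x ∈ (P : Subgroup A))
    (hy : y ∈ (P : Subgroup A)) : x * y = y * x := by
  obtain ⟨P₀, hle, hn, hc⟩ := h
  rw [Good.eq_of_le ⟨P₀, hle, hn, hc⟩ hP hle] at hx hy
  exact hc x hx y hy

/-- An `s`-element of `T` lies in its Sylow subgroup. -/
theorem mem {P : Sylow s A} (hP : (P : Subgroup A) ≤ T) {x : A} {k : ℕ} (hx : x ^ s ^ k = 1)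
    (hxT : x ∈ T) : x ∈ (P : Subgroup A) :=
  mem_of_mem_normalizer P hx (h.le_normalizer hP hxT)

/-- Two commuting parts: the Sylow subgroups for different primes centralise each other. -/
theorem commute {r : ℕ} (hr : Good r T) [Fact s.Prime] [Fact r.Prime] (hsr : s ≠ r)
    {P : Sylow s A} {R : Sylow r A} (hP : (P : Subgroup A) ≤ T) (hR : (R : Subgroup A) ≤ T)
    {x y : A} (hx : x ∈ (P : Subgroup A)) (hy : y ∈ (R : Subgroup A)) : x * y = y * x := by
  have hdis : ∀ z, z ∈ (P : Subgroup A) → z ∈ (R : Subgroup A) → z = 1 := fun z h1 h2 =>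
    Subgroup.disjoint_def.1 (IsPGroup.disjoint_of_ne s r hsr _ _ P.2 R.2) h1 h2
  have h1 := (Subgroup.mem_normalizer_iff.1 (h.le_normalizer hP (hR hy)) x).1 hx
  have h2 := (Subgroup.mem_normalizer_iff.1 (hr.le_normalizer hR (hP hx)) y⁻¹).1 (inv_mem hy)
  have := hdis (x * y * x⁻¹ * y⁻¹) (by
    have := mul_mem hx ((Subgroup.mem_normalizer_iff.1 (h.le_normalizer hP (hR hy)) x⁻¹).1 (inv_mem hx))
    simpa [mul_assoc] using this) (by
    have := mul_mem ((Subgroup.mem_normalizer_iff.1 (hr.le_normalizer hR (hP hx)) y).1 hy) (inv_mem hy)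
    simpa [mul_assoc] using this)
  rwa [mul_inv_eq_one, mul_inv_eq_iff_eq_mul] at this

end Good

/-- Every point of an invariant set is fixed by exactly one Sylow `s`-subgroup. -/
theorem card_eq_card_sylow_mul [Finite A] [hs : Fact s.Prime] {Ω : Type*} [MulAction A Ω] [Finite Ω]
    (S : Set Ω) (hinv : ∀ (g : A), ∀ u ∈ S, g • u ∈ S)
    (hex : ∀ u ∈ S, ∃ P : Sylow s A, (P : Subgroup A) ≤ MulAction.stabilizer A u)
    (huniq : ∀ u ∈ S, ∀ P P' : Sylow s A, (P : Subgroup A) ≤ MulAction.stabilizer A u →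
      (P' : Subgroup A) ≤ MulAction.stabilizer A u → P = P')
    (P₀ : Sylow s A) :
    Nat.card S = Nat.card (Sylow s A) *
      Nat.card {u : Ω // u ∈ S ∧ (P₀ : Subgroup A) ≤ MulAction.stabilizer A u} := by
  classical
  let Fix : Sylow s A → Type _ := fun P =>
    {u : Ω // u ∈ S ∧ (P : Subgroup A) ≤ MulAction.stabilizer A u}
  have e1 : S ≃ (P : Sylow s A) × Fix P :=
    { toFun := fun u => ⟨(hex u u.2).choose, ⟨u, u.2, (hex u u.2).choose_spec⟩⟩
      invFun := fun x => ⟨x.2.1, x.2.2.1⟩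
      left_inv := fun u => rfl
      right_inv := by
        rintro ⟨P, u, hu, hP⟩
        obtain rfl := huniq u hu _ P (hex u hu).choose_spec hP
        rfl }
  have hmove : ∀ (g : A) (P : Sylow s A) (u : Ω),
      (P : Subgroup A) ≤ MulAction.stabilizer A u →
      ((g • P : Sylow s A) : Subgroup A) ≤ MulAction.stabilizer A (g • u) := by
    intro g P u h x hx
    rw [Sylow.coe_subgroup_smul] at hx
    obtain ⟨y, hy, rfl⟩ := Subgroup.mem_pointwise_smul_iff_inv_smul_mem.1 hx |>
      fun h' => (⟨_, h', rfl⟩ : ∃ y ∈ (P : Subgroup A), (MulAut.conj g)⁻¹ • x = y)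
    rw [MulAction.mem_stabilizer_iff]
    have h1 : (g⁻¹ * x * g) • u = u := by
      have := h hy
      simpa [MulAut.smul_def, MulAction.mem_stabilizer_iff] using this
    rw [mul_smul, mul_smul, inv_smul_eq_iff] at h1
    exact h1
  have e2 : ∀ P : Sylow s A, Nat.card (Fix P) = Nat.card (Fix P₀) := by
    intro P
    obtain ⟨g, rfl⟩ := MulAction.exists_smul_eq A P₀ P
    refine Nat.card_congr
      { toFun := fun u => ⟨g⁻¹ • u.1, hinv _ _ u.2.1, by
          have := hmove g⁻¹ (g • P₀) u.1 u.2.2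
          rwa [inv_smul_smul] at this⟩
        invFun := fun u => ⟨g • u.1, hinv _ _ u.2.1, hmove g P₀ u.1 u.2.2⟩
        left_inv := fun u => Subtype.ext (smul_inv_smul g u.1)
        right_inv := fun u => Subtype.ext (inv_smul_smul g u.1) }
  haveI := Fintype.ofFinite (Sylow s A)
  rw [Nat.card_congr e1, Nat.card_sigma, Finset.sum_congr rfl fun P _ => e2 P, Finset.sum_const,
    Finset.card_univ, smul_eq_mul, Nat.card_eq_fintype_card (α := Sylow s A)]

end Cfsg.Agent.ThreePrime
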