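import Cfsg.Agent.Lib.ThreePrime.Singer
import Cfsg.Agent.Lib.ThreePrime.Spread

/-!
Linear groups in which every nonzero vector is fixed by exactly one Sylow `q`-subgroup, normal and
abelian in the stabiliser.

* `Spr`, `Spr.count`: `t ^ m - 1 = n_q (t ^ e - 1)`
* `Spr.fixes_of_stab_eq`, `Spr.eq_one_of_normal_pGroup`
* `Spr.abelian_of_commute`: what centralises all Sylow `q`-subgroups is abelian
-/

set_option autoImplicit false
set_option linter.style.haveILetI false
set_option linter.unusedSectionVars false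

namespace Cfsg.Agent.ThreePrime

variable {t : ℕ} [ht : Fact t.Prime] {V : Type*} [AddCommGroup V] [Module (ZMod t) V]
  {A : Type*} [Group A] (ρ : A →* Module.End (ZMod t) V)

/-- The action on vectors. -/
@[reducible] def linAct : MulAction A V where
  smul g v := ρ g v
  one_smul v := by show ρ 1 v = v; rw [map_one]; rfl
  mul_smul g h v := by show ρ (g * h) v = ρ g (ρ h v); rw [map_mul]; rfl

/-- The stabiliser of a vector. -/
def stab (v : V) : Subgroup A := @MulAction.stabilizer A V _ (linAct ρ) v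

theorem mem_stab {v : V} {g : A} : g ∈ stab ρ v ↔ ρ g v = v := Iff.rfl

/-- The common fixed space of a subgroup. -/
def fixedSp (H : Subgroup A) : Submodule (ZMod t) V := ⨅ g : H, LinearMap.ker (ρ (g : A) - 1)

theorem mem_fixedSp {H : Subgroup A} {v : V} : v ∈ fixedSp ρ H ↔ H ≤ stab ρ v := by
  simp only [fixedSp, Submodule.mem_iInf, LinearMap.mem_ker, LinearMap.sub_apply,
    Module.End.one_apply, sub_eq_zero]
  exact ⟨fun h g hg => h ⟨g, hg⟩, fun h g => h g.2⟩

theorem stab_map (g : A) (v : V) (x : A) : x ∈ stab ρ (ρ g v) ↔ g⁻¹ * x * g ∈ stab ρ v := by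
  simp only [mem_stab, map_mul, Module.End.mul_apply]
  constructor
  · intro h
    rw [h, ← Module.End.mul_apply, ← map_mul, inv_mul_cancel, map_one, Module.End.one_apply]
  · intro h
    have := congrArg (ρ g) h
    rwa [← Module.End.mul_apply, ← map_mul, mul_inv_cancel, map_one, Module.End.one_apply] at this

/-- The hypotheses. -/
structure Spr (q : ℕ) : Prop where
  inj : Function.Injective ρ
  nt : Nontrivial V
  dvd : q ∣ Nat.card A
  good : ∀ v : V, v ≠ 0 → Good q (stab ρ v)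

variable [Finite A] [Finite V] {ρ} {q : ℕ} [hq : Fact q.Prime]

namespace Spr

variable (h : Spr ρ q)
include h

theorem sylow_ne_bot (P : Sylow q A) : ∃ x ∈ (P : Subgroup A), orderOf x = q := by
  obtain ⟨x, hx⟩ := exists_prime_orderOf_dvd_card' q h.dvd
  obtain ⟨Q, hQ⟩ := (IsPGroup.of_card (n := 1)
    (by rw [Nat.card_zpowers, hx, pow_one]) : IsPGroup q (Subgroup.zpowers x)).exists_le_sylow
  obtain ⟨g, rfl⟩ := MulAction.exists_smul_eq A Q P
  refine ⟨g * x * g⁻¹, ?_, ?_⟩
  · rw [Sylow.coe_subgroup_smul]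
    exact Subgroup.mem_pointwise_smul_iff_inv_smul_mem.2
      (by simpa [MulAut.smul_def, mul_assoc] using hQ (Subgroup.mem_zpowers x))
  · have := MulEquiv.orderOf_eq (MulAut.conj g) x
    rw [MulAut.conj_apply, hx] at this
    exact this

theorem exists_fixed (P : Sylow q A) : ∃ v : V, v ≠ 0 ∧ (P : Subgroup A) ≤ stab ρ v := by
  haveI := h.nt
  obtain ⟨v, hv⟩ := exists_ne (0 : V)
  obtain ⟨Q, hQ, -, -⟩ := h.good v hv
  obtain ⟨g, rfl⟩ := MulAction.exists_smul_eq A Q P
  refine ⟨ρ g v, fun h0 => hv ?_, fun x hx => (stab_map ρ g v x).2 (hQ ?_)⟩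
  · have := congrArg (ρ g⁻¹) h0
    rwa [← Module.End.mul_apply, ← map_mul, inv_mul_cancel, map_one, Module.End.one_apply,
      map_zero] at this
  · rw [Sylow.coe_subgroup_smul, Subgroup.mem_pointwise_smul_iff_inv_smul_mem] at hx
    simpa [MulAut.smul_def] using hx

theorem sylow_eq {P P' : Sylow q A} {v : V} (hv : v ≠ 0) (hP : (P : Subgroup A) ≤ stab ρ v)
    (hP' : (P' : Subgroup A) ≤ stab ρ v) : P = P' := (h.good v hv).eq_of_le hP hP'

theorem sylow_eq_of_inter {P P' : Sylow q A} {v : V} (hv : v ≠ 0) (hP : v ∈ fixedSp ρ (P : Subgroup A))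
    (hP' : v ∈ fixedSp ρ (P' : Subgroup A)) : P = P' :=
  h.sylow_eq hv ((mem_fixedSp ρ).1 hP) ((mem_fixedSp ρ).1 hP')

/-- A `q`-element mapping `u` to a vector with the same stabiliser fixes it. -/
theorem fixes_of_stab_eq {x : A} (hx : x ^ q = 1) {u : V} (hu : u ≠ 0)
    (hst : stab ρ (ρ x u) = stab ρ u) : ρ x u = u := by
  obtain ⟨P, hP, -, -⟩ := h.good u hu
  have hle : ((x • P : Sylow q A) : Subgroup A) ≤ stab ρ u := by
    intro y hy
    rw [← hst, stab_map]
    rw [Sylow.coe_subgroup_smul, Subgroup.mem_pointwise_smul_iff_inv_smul_mem] at hy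
    exact hP (by simpa [MulAut.smul_def] using hy)
  have hfix : x • P = P := h.sylow_eq hu hle hP
  have hxn : x ∈ Subgroup.normalizer ((P : Subgroup A) : Set A) :=
    Sylow.smul_eq_iff_mem_normalizer.1 hfix
  exact hP (mem_of_mem_normalizer P (k := 1) (by rwa [pow_one]) hxn)

/-- No nontrivial normal `q`-subgroup. -/
theorem eq_one_of_normal_pGroup (N : Subgroup A) [N.Normal] (hN : IsPGroup q N) {x : A}
    (hx : x ∈ N) : x = 1 := by
  refine h.inj (LinearMap.ext fun v => ?_)
  rw [map_one, Module.End.one_apply]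
  by_cases hv : v = 0
  · rw [hv, map_zero]
  obtain ⟨P, hP, -, -⟩ := h.good v hv
  exact hP (P.3 (hN.to_sup_of_normal_left P.2) le_sup_right |>.le (Subgroup.mem_sup_left hx))

/-- `t ^ m - 1 = n_q (t ^ e - 1)`, where `t ^ e` is the size of the fixed space. -/
theorem count {m : ℕ} (hV : Nat.card V = t ^ m) (P : Sylow q A) :
    ∃ e, Nat.card (fixedSp ρ (P : Subgroup A)) = t ^ e ∧ 0 < e ∧ e < m ∧ e ∣ m ∧
      t ^ m - 1 = Nat.card (Sylow q A) * (t ^ e - 1) := by
  classical
  letI := linAct ρ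
  obtain ⟨e, hem, he, htop, hbot⟩ := exists_card_submodule hV (fixedSp ρ (P : Subgroup A))
  have hc := card_eq_card_sylow_mul (A := A) (s := q) {v : V | v ≠ 0}
    (fun g u hu h0 => hu (by
      have := congrArg (g⁻¹ • ·) (show g • u = 0 from h0)
      rw [inv_smul_smul] at this
      exact this.trans (map_zero (ρ g⁻¹))))
    (fun u hu => by obtain ⟨Q, hQ, -, -⟩ := h.good u hu; exact ⟨Q, hQ⟩)
    (fun u hu Q Q' hQ hQ' => h.sylow_eq hu hQ hQ') P
  have h1 : Nat.card {v : V | v ≠ 0} = t ^ m - 1 := by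
    rw [← hV, Nat.card_coe_set_eq, show {v : V | v ≠ 0} = {(0 : V)}ᶜ from rfl, Set.ncard_compl,
      Set.ncard_singleton]
  have h2 : Nat.card {u : V // u ∈ {v : V | v ≠ 0} ∧ (P : Subgroup A) ≤ MulAction.stabilizer A u} =
      t ^ e - 1 := by
    have : {u : V | u ∈ {v : V | v ≠ 0} ∧ (P : Subgroup A) ≤ MulAction.stabilizer A u} =
        (fixedSp ρ (P : Subgroup A) : Set V) \ {0} := by
      ext u
      simp only [Set.mem_ofPred_eq, Set.mem_sdiff, SetLike.mem_coe, mem_fixedSp, Set.mem_singleton_iff]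
      exact and_comm
    show Nat.card ↥{u : V | u ∈ {v : V | v ≠ 0} ∧ (P : Subgroup A) ≤ MulAction.stabilizer A u} = _
    rw [this, Nat.card_coe_set_eq, Set.ncard_sdiff_singleton_of_mem
      (Submodule.zero_mem _), ← he, ← Nat.card_coe_set_eq]
    rfl
  rw [h1, h2] at hc
  have he0 : 0 < e := by
    by_contra h0
    obtain ⟨v, hv, hfix⟩ := h.exists_fixed P
    exact hv ((Submodule.mem_bot (R := ZMod t)).1
      (hbot (Nat.eq_zero_of_not_pos h0) ▸ (mem_fixedSp ρ).2 hfix))
  have hlt : e < m := by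
    refine lt_of_le_of_ne hem fun hh => ?_
    obtain ⟨x, hx, hxo⟩ := h.sylow_ne_bot P
    have : x = 1 := h.inj (LinearMap.ext fun v => by
      rw [map_one]
      exact (mem_fixedSp ρ).1 (htop hh ▸ Submodule.mem_top : v ∈ fixedSp ρ (P : Subgroup A)) hx)
    exact hq.out.ne_one (by rw [← hxo, this, orderOf_one])
  refine ⟨e, he, he0, hlt, ?_, hc⟩
  have hd : t ^ e - 1 ∣ t ^ m - 1 := hc ▸ dvd_mul_left _ _
  have hg := Nat.dvd_antisymm (Nat.dvd_gcd hd dvd_rfl) (Nat.gcd_dvd_right _ _)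
  rw [Nat.pow_sub_one_gcd_pow_sub_one] at hg
  have hinj : e = Nat.gcd m e := Nat.pow_right_injective ht.out.two_le (by
    show t ^ e = t ^ Nat.gcd m e
    have := Nat.one_le_pow e t ht.out.pos
    have := Nat.one_le_pow (Nat.gcd m e) t ht.out.pos
    omega)
  exact hinj ▸ Nat.gcd_dvd_left m e

/-- Elements centralising all Sylow `q`-subgroups commute with each other. -/
theorem abelian_of_commute {x y : A}
    (hx : ∀ P : Sylow q A, ∀ z ∈ (P : Subgroup A), Commute x z)
    (hy : ∀ P : Sylow q A, ∀ z ∈ (P : Subgroup A), Commute y z) : Commute x y := by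
  haveI := h.nt
  let K : Subring (Module.End (ZMod t) V) :=
    { carrier := {φ | ∀ P : Sylow q A, ∀ v ∈ fixedSp ρ (P : Subgroup A), φ v ∈ fixedSp ρ (P : Subgroup A)}
      mul_mem' := fun hφ hψ P v hv => hφ P _ (hψ P v hv)
      one_mem' := fun P v hv => hv
      add_mem' := fun hφ hψ P v hv => Submodule.add_mem _ (hφ P v hv) (hψ P v hv)
      zero_mem' := fun P v _ => Submodule.zero_mem _
      neg_mem' := fun hφ P v hv => Submodule.neg_mem _ (hφ P v hv) }
  have key : ∀ φ ∈ K, ∀ u : V, u ≠ 0 → φ u = 0 → φ = 0 := by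
    intro φ hφ u hu hφu
    obtain ⟨P1, hP1, -, -⟩ := h.good u hu
    -- outside the component of `u`
    have hout : ∀ (u : V) (P1 : Sylow q A), u ≠ 0 → φ u = 0 → (P1 : Subgroup A) ≤ stab ρ u →
        ∀ w : V, w ∉ fixedSp ρ (P1 : Subgroup A) → φ w = 0 := by
      intro u P1 hu hφu hP1 w hw
      have hw0 : w ≠ 0 := fun h0 => hw (h0 ▸ Submodule.zero_mem _)
      have huw : u + w ≠ 0 := fun h0 => hw (by
        rw [eq_neg_of_add_eq_zero_right h0]
        exact Submodule.neg_mem _ ((mem_fixedSp ρ).2 hP1))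
      obtain ⟨P2, hP2, -, -⟩ := h.good w hw0
      obtain ⟨P3, hP3, -, -⟩ := h.good _ huw
      by_contra hne
      have h3 : φ w ∈ fixedSp ρ (P3 : Subgroup A) := by
        have := hφ P3 _ ((mem_fixedSp ρ).2 hP3)
        rwa [map_add, hφu, zero_add] at this
      obtain rfl := h.sylow_eq_of_inter hne (hφ P2 _ ((mem_fixedSp ρ).2 hP2)) h3
      have hu2 : u ∈ fixedSp ρ (P2 : Subgroup A) := by
        have := Submodule.sub_mem _ ((mem_fixedSp ρ).2 hP3) ((mem_fixedSp ρ).2 hP2)
        rwa [add_sub_cancel_right] at this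
      obtain rfl := h.sylow_eq_of_inter hu hu2 ((mem_fixedSp ρ).2 hP1)
      exact hw ((mem_fixedSp ρ).2 hP2)
    refine LinearMap.ext fun w => ?_
    by_cases hw : w ∈ fixedSp ρ (P1 : Subgroup A)
    · by_cases hw0 : w = 0
      · rw [hw0, map_zero]; rfl
      obtain ⟨x, hx, hxo⟩ := h.sylow_ne_bot P1
      obtain ⟨z, hz⟩ : ∃ z : V, z ∉ fixedSp ρ (P1 : Subgroup A) := by
        by_contra hall
        push Not at hall
        have : x = 1 := h.inj (LinearMap.ext fun v => by
          rw [map_one]; exact (mem_fixedSp ρ).1 (hall v) hx)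
        exact hq.out.ne_one (by rw [← hxo, this, orderOf_one])
      have hz0 : z ≠ 0 := fun h0 => hz (h0 ▸ Submodule.zero_mem _)
      obtain ⟨P2, hP2, -, -⟩ := h.good z hz0
      refine hout z P2 hz0 (hout u P1 hu hφu hP1 z hz) hP2 w fun hw2 => hz ?_
      obtain rfl := h.sylow_eq_of_inter hw0 hw hw2
      exact (mem_fixedSp ρ).2 hP2
    · exact hout u P1 hu hφu hP1 w hw
  haveI : Finite (Module.End (ZMod t) V) := Finite.of_injective _ DFunLike.coe_injective
  haveI : Nontrivial K := ⟨0, 1, fun h => zero_ne_one (congrArg Subtype.val h)⟩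
  haveI : NoZeroDivisors K := ⟨fun {φ ψ} hφψ => by
    refine or_iff_not_imp_right.2 fun hψ => Subtype.ext ?_
    obtain ⟨v, hv⟩ : ∃ v, ψ.1 v ≠ 0 := by
      by_contra hall
      push Not at hall
      exact hψ (Subtype.ext (LinearMap.ext hall))
    exact key φ.1 φ.2 _ hv (LinearMap.congr_fun (congrArg Subtype.val hφψ) v)⟩
  haveI : IsDomain K := NoZeroDivisors.to_isDomain _
  have hmem : ∀ g : A, (∀ P : Sylow q A, ∀ z ∈ (P : Subgroup A), Commute g z) → ρ g ∈ K := by
    intro g hg P v hv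
    rw [mem_fixedSp] at hv ⊢
    intro z hz
    rw [mem_stab, ← Module.End.mul_apply, ← map_mul, ← (hg P z hz).eq, map_mul,
      Module.End.mul_apply, (mem_stab ρ).1 (hv hz)]
  have := (Finite.isDomain_to_isField K).mul_comm ⟨_, hmem x hx⟩ ⟨_, hmem y hy⟩
  exact h.inj (by rw [map_mul, map_mul]; exact congrArg Subtype.val this)

end Spr

end Cfsg.Agent.ThreePrime
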