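import Cfsg.Agent.Lib.ThreePrime.Central
import Cfsg.Agent.Lib.Cores.Fitting
import Mathlib.GroupTheory.SchurZassenhaus

/-!
Three primes dividing character degrees of a solvable group.

* `SSetup`, `SSetup.false_of`: a complemented minimal normal subgroup moved by a normal Sylow
* `false_of_quotient`, `three_primes_aux`
-/

set_option autoImplicit false
set_option linter.style.haveILetI false
set_option linter.unusedSectionVars false

namespace Cfsg.Agent.ThreePrime

open Cfsg Cfsg.Agent.Char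
open scoped commutatorElement

universe u

variable {G : Type u} [Group G] [Finite G]

/-- The hypotheses. -/
structure SSetup (V H : Subgroup G) (t : ℕ) (T : Subgroup H) : Prop where
  Vn : V.Normal
  compl : Subgroup.IsComplement' V H
  Vexp : ∀ v ∈ V, v ^ t = 1
  Vc : ∀ a ∈ V, ∀ b ∈ V, a * b = b * a
  Vpg : IsPGroup t V
  Vne : V ≠ ⊥
  minimal : ∀ K : Subgroup G, K.Normal → K ≤ V → K = ⊥ ∨ K = V
  Tn : T.Normal
  moves : ∃ x ∈ T, ∃ v ∈ V, (x : G) * v ≠ v * x

namespace SSetup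

variable {V H : Subgroup G} {t : ℕ} {T : Subgroup H}

theorem fixed_eq_one (S : SSetup V H t T) :
    haveI := S.Vn; ∀ μ : V →* ℂˣ, T ≤ linStab V H μ → μ = 1 := by
  haveI := S.Vn
  let K : Subgroup G :=
    { carrier := {v | ∃ hv : v ∈ V, ∀ μ : V →* ℂˣ, T ≤ linStab V H μ → μ ⟨v, hv⟩ = 1}
      one_mem' := ⟨one_mem _, fun μ _ => map_one μ⟩
      mul_mem' := fun ⟨ha, ha'⟩ ⟨hb, hb'⟩ => ⟨mul_mem ha hb, fun μ hμ => by
        have := map_mul μ ⟨_, ha⟩ ⟨_, hb⟩
        rw [ha' μ hμ, hb' μ hμ, one_mul] at this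
        exact this⟩
      inv_mem' := fun ⟨ha, ha'⟩ => ⟨inv_mem ha, fun μ hμ => by
        have := map_inv μ ⟨_, ha⟩
        rw [ha' μ hμ, inv_one] at this
        exact this⟩ }
  have hKV : K ≤ V := fun v hv => hv.1
  have hKn : K.Normal := by
    refine ⟨fun v ⟨hv, hv'⟩ g => ?_⟩
    obtain ⟨⟨n, x⟩, rfl, -⟩ := S.compl.existsUnique g
    have hxv : (x : G) * v * (x : G)⁻¹ ∈ V := S.Vn.conj_mem v hv x
    have he : (n : G) * x * v * ((n : G) * x)⁻¹ = (x : G) * v * (x : G)⁻¹ :=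
      calc (n : G) * x * v * ((n : G) * x)⁻¹ = (n : G) * ((x : G) * v * (x : G)⁻¹) * (n : G)⁻¹ := by group
        _ = _ := by rw [S.Vc n n.2 _ hxv, mul_inv_cancel_right]
    rw [he]
    refine ⟨hxv, fun μ hμ => ?_⟩
    letI := linConjAct V H
    have hfix : T ≤ linStab V H (x⁻¹ • μ) := by
      intro y hy
      show y • (x⁻¹ • μ) = x⁻¹ • μ
      have h1 : (x * y * x⁻¹) • μ = μ := hμ (S.Tn.conj_mem y hy x)
      conv_rhs => rw [← h1]
      rw [← mul_smul, ← mul_smul]
      congr 1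
      group
    have h2 := hv' _ hfix
    refine Eq.trans ?_ h2
    show μ _ = μ (MulAut.conjNormal (H := V) ((x⁻¹ : H) : G)⁻¹ ⟨v, hv⟩)
    congr 1
    exact Subtype.ext (by simp)
  obtain ⟨x, hx, v, hv, hne⟩ := S.moves
  have hmem : v⁻¹ * ((x : G)⁻¹ * v * x) ∈ K := by
    have hc : (x : G)⁻¹ * v * x ∈ V := by simpa using S.Vn.conj_mem v hv (x : G)⁻¹
    refine ⟨mul_mem (inv_mem hv) hc, fun μ hμ => ?_⟩
    have h1 := (mem_linStab V H μ x).1 (hμ hx) ⟨v, hv⟩
    show μ ((⟨v, hv⟩ : V)⁻¹ * ⟨_, hc⟩) = 1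
    rw [map_mul, map_inv, h1, inv_mul_cancel]
  rcases S.minimal K hKn hKV with h | h
  · exfalso
    rw [h, Subgroup.mem_bot, inv_mul_eq_one] at hmem
    refine hne ?_
    conv_lhs => rw [hmem]
    group
  · intro μ hμ
    refine MonoidHom.ext fun w => ?_
    obtain ⟨_, hw⟩ := h.ge w.2
    exact hw μ hμ

variable [Group.IsSolvable G] {p q r : ℕ} [hp : Fact p.Prime] [hq : Fact q.Prime] [hr : Fact r.Prime]
  [ht : Fact t.Prime]

theorem good {s : ℕ} [Fact s.Prime] (S : SSetup V H t T) (P : Sylow p H) (hP : (P : Subgroup H) = T)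
    (hps : p ≠ s) (hno : ∀ χ : IrrCharacter G, ¬ p * s ∣ charDegree (χ : G → ℂ)) :
    haveI := S.Vn; ∀ μ : V →* ℂˣ, μ ≠ 1 → Good s (linStab V H μ) := by
  haveI := S.Vn
  intro μ hμ
  have hd : p ∣ (linStab V H μ).index := by
    by_contra hd
    obtain ⟨T0⟩ : Nonempty (Sylow p (linStab V H μ)) := inferInstance
    have hidx : ¬ p ∣ ((T0 : Subgroup (linStab V H μ)).map (linStab V H μ).subtype).index := by
      rw [Subgroup.index_map_subtype]
      exact hp.out.not_dvd_mul T0.not_dvd_index hd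
    haveI : Subsingleton (Sylow p H) := Sylow.unique_of_normal P (hP ▸ S.Tn) |>.instSubsingleton
    refine hμ (S.fixed_eq_one μ (hP.ge.trans ?_))
    rw [Subsingleton.elim P ((T0.2.map _).toSylow hidx), IsPGroup.toSylow_coe]
    exact Subgroup.map_subtype_le _
  rw [linStab_eq] at hd ⊢
  exact good_inertia S.compl (isIrrCharacter_of_hom ((Units.coeHom ℂ).comp μ))
    (extends_hom S.compl ((Units.coeHom ℂ).comp μ)) hp.out Fact.out hps hno (dvd_mul_of_dvd_left hd _)

theorem false_of (S : SSetup V H t T) (P : Sylow p H) (hP : (P : Subgroup H) = T)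
    (hpq : p ≠ q) (hpr : p ≠ r) (hqr : q ≠ r)
    (hnopq : ∀ χ : IrrCharacter G, ¬ p * q ∣ charDegree (χ : G → ℂ))
    (hnopr : ∀ χ : IrrCharacter G, ¬ p * r ∣ charDegree (χ : G → ℂ))
    (hnoqr : ∀ χ : IrrCharacter G, ¬ q * r ∣ charDegree (χ : G → ℂ))
    (hqd : ∃ χ : IrrCharacter G, q ∣ charDegree (χ : G → ℂ))
    (hrd : ∃ χ : IrrCharacter G, r ∣ charDegree (χ : G → ℂ)) : False := by
  haveI := S.Vn
  have hmod : Module (ZMod t) (Dual V) := dualModule S.Vexp
  haveI : Finite (Dual V) := finite_dual (V := V)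
  let ρ : H →* Module.End (ZMod t) (Dual V) := (dualRep (t := t) (V := V)).comp H.subtype
  obtain ⟨a, ha⟩ := S.Vpg.exists_card_eq
  have hstab : ∀ v : Dual V, stab ρ v = linStab V H v.toMul := fun v => by
    ext x
    rw [mem_stab_dual, linStab_eq, Subgroup.mem_subgroupOf]
  have hμ : ∀ v : Dual V, v ≠ 0 → v.toMul ≠ 1 := fun v hv h => hv (Additive.toMul.injective h)
  obtain ⟨μ, hμ1⟩ : ∃ μ : V →* ℂˣ, μ ≠ 1 := by
    haveI : Nontrivial V := (Subgroup.nontrivial_iff_ne_bot V).2 S.Vne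
    obtain ⟨x, hx⟩ := exists_ne (1 : V)
    by_contra hno
    push Not at hno
    exact hx (dual_sep S.Vc fun μ => by rw [hno μ]; rfl)
  -- a Sylow subgroup in the kernel would give an abelian normal subgroup of coprime index
  have hker : ∀ {s : ℕ} [Fact s.Prime], p ≠ s →
      (∀ χ : IrrCharacter G, ¬ p * s ∣ charDegree (χ : G → ℂ)) →
      (∃ χ : IrrCharacter G, s ∣ charDegree (χ : G → ℂ)) → ∀ Q : Sylow s H,
      ¬ (Q : Subgroup H) ≤ ρ.toHomUnits.ker := by
    intro s _ hps hno hsd Q hle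
    have hK : ρ.toHomUnits.ker ≤ linStab V H μ := by
      intro x hx
      have h1 : stab ρ (Additive.ofMul μ) = linStab V H μ := hstab _
      rw [← h1, mem_stab, show ρ x = 1 from congrArg Units.val hx]
      rfl
    obtain ⟨hQn, hQc⟩ := Good.normal_of_le_ker (S.good P hP hps hno μ hμ1) hK hle
    haveI := hQn
    have hcV : ∀ x ∈ (Q : Subgroup H), ∀ v ∈ V, Commute (x : G) v := by
      intro x hx v hv
      have h1 : dualRep (t := t) (V := V) (x : G) = 1 := congrArg Units.val (hle hx)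
      exact commute_of_dual_fixed S.Vc h1 hv
    set A := (Q : Subgroup H).comap (proj S.compl) with hA
    haveI : A.Normal := Subgroup.Normal.comap hQn _
    have hAc : ∀ a ∈ A, ∀ b ∈ A, a * b = b * a := by
      intro a ha b hb
      rw [hA, Subgroup.mem_comap] at ha hb
      set x := proj S.compl a
      set y := proj S.compl b
      set u := a * ((x : H) : G)⁻¹
      set w := b * ((y : H) : G)⁻¹
      have hu : u ∈ V := mul_proj_inv_mem S.compl a
      have hw : w ∈ V := mul_proj_inv_mem S.compl b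
      have hxy : Commute ((x : H) : G) ((y : H) : G) :=
        congrArg Subtype.val (hQc x ha y hb)
      have h1 : Commute (u * (x : G)) (w * (y : G)) :=
        ((show Commute u w from S.Vc u hu w hw).mul_right (hcV y hb u hu).symm).mul_left
          ((hcV x ha w hw).mul_right hxy)
      simpa [u, w] using h1.eq
    obtain ⟨χ, hχ⟩ := hsd
    obtain ⟨n, -, h1, h2⟩ := Ito.exists_degree_dvd_index χ.2 A hAc
    rw [CharApp.DegreeSets.apply_one χ.2, Nat.cast_inj] at h1
    have h3 := hχ.trans (h1 ▸ h2)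
    rw [Subgroup.index_comap_of_surjective (f := proj S.compl) _
      (fun x => ⟨(x : G), proj_coe S.compl x⟩)] at h3
    exact Q.not_dvd_index h3
  have hW : Nat.card (Dual V) = t ^ a := (card_dual S.Vc).trans ha
  have hnt : Nontrivial (Dual V) := ⟨Additive.ofMul μ, 0, fun h => hμ1 (Additive.ofMul.injective h)⟩
  have hgq : ∀ v : Dual V, v ≠ 0 → Good q (stab ρ v) := fun v hv => by
    rw [hstab]; exact S.good P hP hpq hnopq _ (hμ v hv)
  have hgr : ∀ v : Dual V, v ≠ 0 → Good r (stab ρ v) := fun v hv => by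
    rw [hstab]; exact S.good P hP hpr hnopr _ (hμ v hv)
  have e1 := exists_degree_of_good (H := H) (t := t) (W := Dual V) ρ (q := q) (r := r) (m := a)
    hqr hW hnt
  have e2 := e1 hgq hgr
  obtain ⟨Q⟩ : Nonempty (Sylow q H) := inferInstance
  obtain ⟨R⟩ : Nonempty (Sylow r H) := inferInstance
  have hQk := hker hpq hnopq hqd Q
  have e3 := e2 ⟨Q, hQk⟩
  have hRk := hker hpr hnopr hrd R
  have e4 := e3 ⟨R, hRk⟩
  obtain ⟨χ, hχ⟩ := e4
  have hirr := IsIrrCharacter.comp_surjective χ.2 (proj S.compl)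
    (fun x => ⟨(x : G), proj_coe S.compl x⟩)
  refine hnoqr ⟨_, hirr⟩ ?_
  have h1 := CharApp.DegreeSets.apply_one hirr
  rw [map_one (proj S.compl), CharApp.DegreeSets.apply_one χ.2, Nat.cast_inj] at h1
  exact h1 ▸ hχ

end SSetup

/-- One of the primes is absent from the quotient by a minimal normal subgroup. -/
theorem false_of_quotient [hsolv : Group.IsSolvable G] (V : Subgroup G) [V.Normal] {t : ℕ} (ht : t.Prime)
    (hVc : ∀ a ∈ V, ∀ b ∈ V, a * b = b * a) (hVp : IsPGroup t V) (hVexp : ∀ v ∈ V, v ^ t = 1)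
    (hV0 : V ≠ ⊥) (hmin : ∀ K : Subgroup G, K.Normal → K ≤ V → K = ⊥ ∨ K = V)
    {p q r : ℕ} (hp : p.Prime) (hq : q.Prime) (hr : r.Prime) (hpq : p ≠ q) (hpr : p ≠ r) (hqr : q ≠ r)
    (hnopq : ∀ χ : IrrCharacter G, ¬ p * q ∣ charDegree (χ : G → ℂ))
    (hnopr : ∀ χ : IrrCharacter G, ¬ p * r ∣ charDegree (χ : G → ℂ))
    (hnoqr : ∀ χ : IrrCharacter G, ¬ q * r ∣ charDegree (χ : G → ℂ))
    (hpd : ∃ χ : IrrCharacter G, p ∣ charDegree (χ : G → ℂ))
    (hqd : ∃ χ : IrrCharacter G, q ∣ charDegree (χ : G → ℂ))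
    (hrd : ∃ χ : IrrCharacter G, r ∣ charDegree (χ : G → ℂ))
    (hlack : ∀ χ : IrrCharacter (G ⧸ V), ¬ p ∣ charDegree (χ : G ⧸ V → ℂ)) : False := by
  haveI := Fact.mk hp; haveI := Fact.mk hq; haveI := Fact.mk hr; haveI := Fact.mk ht
  set π := QuotientGroup.mk' V
  have hπ : Function.Surjective π := QuotientGroup.mk'_surjective V
  haveI : Group.IsSolvable (G ⧸ V) := Group.isSolvable_of_surjective (f := π) hπ
  obtain ⟨P1, hP1n, hP1c, hP1p, hP1i⟩ := (S4493.result (inferInstance : Group.IsSolvable (G ⧸ V)) p hp).2 hlack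
  set PV := P1.comap π with hPV
  haveI : PV.Normal := Subgroup.Normal.comap hP1n π
  have hVPV : V ≤ PV := QuotientGroup.le_comap_mk' V P1
  have hPVi : ¬ p ∣ PV.index := by
    rw [hPV, Subgroup.index_comap_of_surjective _ hπ]; exact hP1i
  have hcV : ∀ a ∈ PV, ∀ b ∈ PV, a * b * a⁻¹ * b⁻¹ ∈ V := by
    intro a ha b hb
    rw [← QuotientGroup.eq_one_iff]
    show π (a * b * a⁻¹ * b⁻¹) = 1
    rw [map_mul, map_mul, map_mul, map_inv, map_inv, hP1c _ ha _ hb]
    group
  have hnab : ¬ ∀ a ∈ PV, ∀ b ∈ PV, a * b = b * a := by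
    intro hc
    obtain ⟨χ, hχ⟩ := hpd
    obtain ⟨n, -, h1, h2⟩ := Ito.exists_degree_dvd_index χ.2 PV hc
    rw [CharApp.DegreeSets.apply_one χ.2, Nat.cast_inj] at h1
    exact hPVi (hχ.trans (h1 ▸ h2))
  by_cases htp : t = p
  · subst htp
    have hPVp : IsPGroup t PV := hP1p.comap_of_ker_isPGroup π (by rwa [QuotientGroup.ker_mk'])
    have hder : ⁅PV, PV⁆ = V := by
      refine (hmin _ inferInstance (Subgroup.commutator_le.2 hcV)).resolve_left fun h0 => hnab ?_
      intro a ha b hb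
      have := Subgroup.commutator_mem_commutator ha hb
      rw [h0, Subgroup.mem_bot, commutatorElement_eq_one_iff_mul_comm] at this
      exact this
    have hcen : ∀ v ∈ V, ∀ x ∈ PV, v * x = x * v := by
      have hK : V ⊓ Subgroup.centralizer (PV : Set G) ≠ ⊥ := by
        haveI : Group.IsNilpotent PV := hPVp.isNilpotent
        haveI : (V.subgroupOf PV).Normal := Subgroup.Normal.subgroupOf inferInstance PV
        intro h0
        refine Cores.inf_center_ne_bot (V.subgroupOf PV) (fun h1 => hV0 ?_) (eq_bot_iff.2 fun z hz => ?_)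
        · rw [Subgroup.subgroupOf_eq_bot] at h1
          exact disjoint_self.1 (h1.mono_right hVPV)
        · rw [Subgroup.mem_bot]
          refine Subtype.ext ((Subgroup.mem_bot (G := G)).1 (h0 ▸ ⟨hz.1, ?_⟩))
          exact Subgroup.mem_centralizer_iff.2 fun g hg =>
            congrArg Subtype.val (Subgroup.mem_center_iff.1 hz.2 ⟨g, hg⟩)
      have h1 := (hmin _ inferInstance inf_le_left).resolve_left hK
      intro v hv x hx
      exact (Subgroup.mem_centralizer_iff.1 (h1.ge hv).2 x hx).symm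
    obtain ⟨k, hk⟩ := hPVp.exists_card_eq
    have hcop : (Nat.card PV).Coprime PV.index := by
      rw [hk]; exact ((hp.coprime_iff_not_dvd.2 hPVi)).pow_left k
    obtain ⟨H, hH⟩ := Subgroup.exists_right_complement'_of_coprime hcop
    exact CSetup.false_of (P := PV) (V := V) (H := H) (p := t)
      ⟨inferInstance, inferInstance, hPVp, hH, hH.symm.index_eq_card ▸ hcop, hder, hcen, hVexp, hV0⟩
      hpq hpr hqr hnopq hnopr hnoqr hqd hrd
  -- the characteristic of `V` differs from `p`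
  obtain ⟨P0⟩ : Nonempty (Sylow p PV) := inferInstance
  set P := (P0 : Subgroup PV).map PV.subtype with hP
  have hPp : IsPGroup p P := P0.2.map _
  have hPPV : P ≤ PV := Subgroup.map_subtype_le _
  have hPi : ¬ p ∣ P.index := by
    rw [hP, Subgroup.index_map_subtype]
    exact hp.not_dvd_mul P0.not_dvd_index hPVi
  set H := Subgroup.normalizer (P : Set G) with hH
  have hdis : ∀ x, x ∈ V → x ∈ P → x = 1 := fun x h1 h2 =>
    Subgroup.disjoint_def.1 (IsPGroup.disjoint_of_ne t p htp _ _ hVp hPp) h1 h2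
  have hPc : ∀ a ∈ P, ∀ b ∈ P, a * b = b * a := by
    intro a ha b hb
    have h1 := hdis _ (hcV a (hPPV ha) b (hPPV hb))
      (mul_mem (mul_mem (mul_mem ha hb) (inv_mem ha)) (inv_mem hb))
    rwa [mul_inv_eq_one, mul_inv_eq_iff_eq_mul] at h1
  have hsup : V ⊔ H = ⊤ := by
    have hfr : H ⊔ PV = ⊤ := Sylow.normalizer_sup_eq_top P0
    have hle : PV ≤ V ⊔ H := by
      have hP1eq : P.map π = P1 := by
        have h1 : P.map π ≤ P1 := Subgroup.map_le_iff_le_comap.2 hPPV
        have h2 : ¬ p ∣ (P.map π).index := fun hd => hPi (hd.trans (P.index_map_dvd hπ))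
        have h3 := ((hPp.map π).toSylow h2).3 hP1p (by rw [IsPGroup.toSylow_coe]; exact h1)
        rw [IsPGroup.toSylow_coe] at h3
        exact h3.symm
      intro x hx
      obtain ⟨y, hy, hyx⟩ := Subgroup.mem_map.1 (hP1eq.ge (show π x ∈ P1 from hx))
      have hv : x * y⁻¹ ∈ V := by
        rw [← QuotientGroup.eq_one_iff]
        show π (x * y⁻¹) = 1
        rw [map_mul, map_inv, hyx, mul_inv_cancel]
      have := Subgroup.mul_mem_sup hv (Subgroup.le_normalizer hy : y ∈ H)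
      rwa [inv_mul_cancel_right] at this
    rw [eq_top_iff, ← hfr]
    exact sup_le le_sup_right hle
  have hVH_comm : ∀ v ∈ V, v ∈ H → ∀ x ∈ P, v * x = x * v := by
    intro v hv hvH x hx
    have h1 := hdis (v * x * v⁻¹ * x⁻¹)
      (by
        have := V.mul_mem hv ((inferInstance : V.Normal).conj_mem v⁻¹ (inv_mem hv) x)
        simpa [mul_assoc] using this)
      (mul_mem ((Subgroup.mem_normalizer_iff.1 hvH x).1 hx) (inv_mem hx))
    rwa [mul_inv_eq_one, mul_inv_eq_iff_eq_mul] at h1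
  have hnP : ¬ P.Normal := by
    intro hPn
    obtain ⟨χ, hχ⟩ := hpd
    obtain ⟨n, -, h1, h2⟩ := Ito.exists_degree_dvd_index χ.2 P hPc
    rw [CharApp.DegreeSets.apply_one χ.2, Nat.cast_inj] at h1
    exact hPi (hχ.trans (h1 ▸ h2))
  have hVH : V ⊓ H = ⊥ := by
    have hn : (V ⊓ H).Normal := by
      refine ⟨fun x hx g => ?_⟩
      obtain ⟨v, hv, y, hy, rfl⟩ := Subgroup.mem_sup_of_normal_left.1 (hsup ▸ Subgroup.mem_top g)
      have h1 : y * x * y⁻¹ ∈ V ⊓ H := ⟨(inferInstance : V.Normal).conj_mem x hx.1 y,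
        H.mul_mem (H.mul_mem hy hx.2) (H.inv_mem hy)⟩
      have h2 : v * y * x * (v * y)⁻¹ = y * x * y⁻¹ :=
        calc v * y * x * (v * y)⁻¹ = v * (y * x * y⁻¹) * v⁻¹ := by group
          _ = _ := by rw [hVc v hv _ h1.1, mul_inv_cancel_right]
      rw [h2]; exact h1
    refine (hmin _ hn inf_le_left).resolve_right fun h => hnP ?_
    have hle : V ≤ H := h.ge.trans inf_le_right
    exact Subgroup.normalizer_eq_top_iff.1 (by rw [← hH, ← hsup, sup_eq_right.2 hle])
  have hcompl : Subgroup.IsComplement' V H := by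
    refine Subgroup.isComplement'_of_disjoint_and_mul_eq_univ (disjoint_iff.2 hVH) ?_
    rw [← Subgroup.normal_mul, hsup, Subgroup.coe_top]
  have hTn : (P.subgroupOf H).Normal := Subgroup.normal_subgroupOf_of_le_normalizer le_rfl
  have hPH : P ≤ H := Subgroup.le_normalizer
  have hTi : ¬ p ∣ (P.subgroupOf H).index := fun hd => hPi (hd.trans (by
    rw [← Subgroup.relIndex_mul_index hPH]; exact dvd_mul_right _ _))
  have hTp : IsPGroup p (P.subgroupOf H) := hPp.comap_of_injective H.subtype H.subtype_injective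
  have hmoves : ∃ x ∈ P.subgroupOf H, ∃ v ∈ V, (x : G) * v ≠ v * x := by
    by_contra hno
    push Not at hno
    have hle : V ≤ H := fun v hv => by
      rw [hH, Subgroup.mem_normalizer_iff]
      intro x
      refine ⟨fun hx => ?_, fun hx => ?_⟩
      · rw [← hno ⟨x, hPH hx⟩ hx v hv, mul_inv_cancel_right]; exact hx
      · have h1 := hno ⟨_, hPH hx⟩ hx v hv
        have h2 : v * x * v⁻¹ = x := by
          have h3 : v * x = v * (v * x * v⁻¹) := by
            rw [← h1]; group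
          exact (mul_left_cancel h3).symm
        rwa [h2] at hx
    refine hV0 ?_
    rw [← inf_eq_left.2 hle, hVH]
  exact SSetup.false_of (t := t) (T := P.subgroupOf H)
    ⟨inferInstance, hcompl, hVexp, hVc, hVp, hV0, hmin, hTn, hmoves⟩ (hTp.toSylow hTi)
    (IsPGroup.toSylow_coe _ _) hpq hpr hqr hnopq hnopr hnoqr hqd hrd

/-- No three primes of a solvable group are pairwise non-adjacent. -/
theorem three_primes_aux : ∀ (n : ℕ) (G : Type u) [Group G] [Finite G] [Group.IsSolvable G],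
    Nat.card G = n → ∀ p q r : ℕ, p.Prime → q.Prime → r.Prime → p ≠ q → p ≠ r → q ≠ r →
    (∀ χ : IrrCharacter G, ¬ p * q ∣ charDegree (χ : G → ℂ)) →
    (∀ χ : IrrCharacter G, ¬ p * r ∣ charDegree (χ : G → ℂ)) →
    (∀ χ : IrrCharacter G, ¬ q * r ∣ charDegree (χ : G → ℂ)) →
    (∃ χ : IrrCharacter G, p ∣ charDegree (χ : G → ℂ)) →
    (∃ χ : IrrCharacter G, q ∣ charDegree (χ : G → ℂ)) →
    (∃ χ : IrrCharacter G, r ∣ charDegree (χ : G → ℂ)) → False := by
  intro n
  induction n using Nat.strong_induction_on with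
  | _ n ih =>
    intro G _ _ _ hn p q r hp hq hr hpq hpr hqr hnopq hnopr hnoqr hpd hqd hrd
    haveI : Nontrivial G := by
      by_contra h
      rw [not_nontrivial_iff_subsingleton] at h
      obtain ⟨χ, hχ⟩ := hpd
      have h1 := hχ.trans (Codegree.deg_dvd_card χ)
      rw [Nat.card_unique, Nat.dvd_one] at h1
      exact hp.ne_one h1
    obtain ⟨t, ht, V, hVn, hV0, -, hVab, hVp, hVexp, hmin⟩ :=
      Solvable.exists_minimal_normal_pGroup (G := G) (N := (⊤ : Subgroup G)) top_ne_bot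
    haveI := hVn
    have hVc : ∀ a ∈ V, ∀ b ∈ V, a * b = b * a := fun a ha b hb =>
      congrArg Subtype.val (hVab.is_comm.comm ⟨a, ha⟩ ⟨b, hb⟩)
    haveI : Group.IsSolvable (G ⧸ V) :=
      Group.isSolvable_of_surjective (f := QuotientGroup.mk' V) (QuotientGroup.mk'_surjective V)
    have hlt : Nat.card (G ⧸ V) < n := by
      rw [← hn, ← Subgroup.index_eq_card, ← V.card_mul_index]
      exact lt_mul_left (Nat.pos_of_ne_zero Subgroup.index_ne_zero_of_finite)
        (V.one_lt_card_iff_ne_bot.2 hV0)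
    have hinfl : ∀ {d : ℕ} (ψ : IrrCharacter (G ⧸ V)), d ∣ charDegree (ψ : G ⧸ V → ℂ) →
        ∃ χ : IrrCharacter G, d ∣ charDegree (χ : G → ℂ) := fun {d} ψ hd => by
      refine ⟨Codegree.inflate V ψ, ?_⟩
      have h1 := CharApp.DegreeSets.apply_one (Codegree.inflate V ψ).2
      rw [Codegree.inflate_apply, QuotientGroup.mk_one, CharApp.DegreeSets.apply_one ψ.2, Nat.cast_inj] at h1
      exact h1 ▸ hd
    have hno : ∀ {d : ℕ}, (∀ χ : IrrCharacter G, ¬ d ∣ charDegree (χ : G → ℂ)) →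
        ∀ ψ : IrrCharacter (G ⧸ V), ¬ d ∣ charDegree (ψ : G ⧸ V → ℂ) := fun h ψ hd => by
      obtain ⟨χ, hχ⟩ := hinfl ψ hd; exact h χ hχ
    have hsw : ∀ {a b : ℕ}, (∀ χ : IrrCharacter G, ¬ a * b ∣ charDegree (χ : G → ℂ)) →
        ∀ χ : IrrCharacter G, ¬ b * a ∣ charDegree (χ : G → ℂ) := fun h χ => by
      rw [mul_comm]; exact h χ
    by_cases hP : ∀ ψ : IrrCharacter (G ⧸ V), ¬ p ∣ charDegree (ψ : G ⧸ V → ℂ)
    · exact false_of_quotient V ht hVc hVp hVexp hV0 hmin hp hq hr hpq hpr hqr hnopq hnopr hnoqr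
        hpd hqd hrd hP
    by_cases hQ : ∀ ψ : IrrCharacter (G ⧸ V), ¬ q ∣ charDegree (ψ : G ⧸ V → ℂ)
    · exact false_of_quotient V ht hVc hVp hVexp hV0 hmin hq hp hr hpq.symm hqr hpr (hsw hnopq)
        hnoqr hnopr hqd hpd hrd hQ
    by_cases hR : ∀ ψ : IrrCharacter (G ⧸ V), ¬ r ∣ charDegree (ψ : G ⧸ V → ℂ)
    · exact false_of_quotient V ht hVc hVp hVexp hV0 hmin hr hp hq hpr.symm hqr.symm hpq (hsw hnopr)
        (hsw hnoqr) hnopq hrd hpd hqd hR
    push Not at hP hQ hR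
    exact ih _ hlt (G ⧸ V) rfl p q r hp hq hr hpq hpr hqr (hno hnopq) (hno hnopr) (hno hnoqr)
      hP hQ hR

end Cfsg.Agent.ThreePrime
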