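import Cfsg.Agent.Lib.HallHigman.PrimeOrder
import Mathlib.RingTheory.LittleWedderburn
import Mathlib.RingTheory.IntegralDomain

/-!
Linear groups over a prime field containing an element of primitive prime order.

* `Ppd.irr`: such an element has no invariant proper subspace
* `Ppd.commute_of_commute`, `Ppd.isCyclic_of_commute`: its commutant is a field
* `Ppd.commute_or_fermat`: it centralises every normal `s`-subgroup, unless `s = 2`
-/

set_option autoImplicit false
set_option linter.style.haveILetI false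

namespace Cfsg.Agent.ThreePrime

open Module

/-- `ℓ` is a primitive prime divisor of `t ^ m - 1`. -/
structure Ppd (t m ℓ : ℕ) : Prop where
  prime : ℓ.Prime
  dvd : ℓ ∣ t ^ m - 1
  primitive : ∀ i, 0 < i → i < m → ¬ ℓ ∣ t ^ i - 1

namespace Ppd

variable {t m ℓ : ℕ} (hl : Ppd t m ℓ)
include hl

theorem exp_eq (ht : 0 < t) {i : ℕ} (hi : i ≤ m) (h : t ^ i ≡ 1 [MOD ℓ]) : i = 0 ∨ i = m := by
  by_contra hne
  rw [not_or] at hne
  exact hl.primitive i (Nat.pos_of_ne_zero hne.1) (lt_of_le_of_ne hi hne.2)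
    ((Nat.modEq_iff_dvd' (Nat.one_le_pow _ _ ht)).1 h.symm)

theorem not_dvd_base (ht : t.Prime) (hm : 0 < m) : ℓ ≠ t := by
  rintro rfl
  have h := Nat.dvd_sub (dvd_pow_self ℓ hm.ne') hl.dvd
  rw [Nat.sub_sub_self (Nat.one_le_pow _ _ ht.pos)] at h
  exact ht.ne_one (Nat.dvd_one.1 h)

theorem dvd_sub_one (ht : t.Prime) (hm : 0 < m) : m ∣ ℓ - 1 := by
  haveI := Fact.mk hl.prime
  have h1 : ℓ ∣ t ^ (ℓ - 1) - 1 := by
    rw [← Nat.modEq_iff_dvd' (Nat.one_le_pow _ _ ht.pos)]
    refine (Nat.ModEq.symm ?_)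
    have hz : ((t : ZMod ℓ)) ≠ 0 := by
      rw [Ne, ZMod.natCast_eq_zero_iff]
      intro hd
      exact hl.not_dvd_base ht hm ((Nat.prime_dvd_prime_iff_eq hl.prime ht).1 hd)
    have := ZMod.pow_card_sub_one_eq_one hz
    rw [← ZMod.natCast_eq_natCast_iff]
    push_cast
    exact this
  have h2 := Nat.dvd_gcd hl.dvd h1
  rw [Nat.pow_sub_one_gcd_pow_sub_one] at h2
  have hg : 0 < Nat.gcd m (ℓ - 1) := Nat.gcd_pos_of_pos_left _ hm
  by_contra hne
  exact hl.primitive _ hg (lt_of_le_of_ne (Nat.le_of_dvd hm (Nat.gcd_dvd_left _ _))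
    fun h => hne (h ▸ Nat.gcd_dvd_right m (ℓ - 1))) h2

end Ppd

section fixedPoints

variable {F : Type*} [Ring F] {V : Type*} [AddCommGroup V] [Module F V] [Finite V]

/-- Fixed points of an endomorphism of prime power order inside an invariant submodule. -/
theorem card_modEq_fixed (g : Module.End F V) {s k : ℕ} [Fact s.Prime] (hg : g ^ s ^ k = 1)
    (W : Submodule F V) (hW : ∀ v ∈ W, g v ∈ W) :
    Nat.card W ≡ Nat.card ↥(W ⊓ LinearMap.ker (g - 1)) [MOD s] := by
  classical
  haveI := Fintype.ofFinite W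
  let f : Function.End W := fun v => ⟨g v, hW v v.2⟩
  have hpow : ∀ (n : ℕ) (v : W), (((f ^ n : Function.End W) v : W) : V) = (g ^ n) v := by
    intro n
    induction n with
    | zero => intro v; rfl
    | succ n ih =>
      intro v
      rw [pow_succ', pow_succ']
      show g (((f ^ n : Function.End W) v : W) : V) = g ((g ^ n) v)
      rw [ih]
  have hf : f ^ s ^ k = 1 := by
    funext v
    refine Subtype.ext ?_
    rw [hpow, hg]; rfl
  have h := Equiv.Perm.card_fixedPoints_modEq hf
  rw [← Nat.card_eq_fintype_card, ← Nat.card_eq_fintype_card] at h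
  refine h.trans (Eq.congr_right ?_ |>.1 rfl)
  congr 1
  refine Nat.card_congr
    { toFun := fun v => ⟨v.1.1, v.1.2, ?_⟩
      invFun := fun v => ⟨⟨v.1, v.2.1⟩, ?_⟩
      left_inv := fun v => rfl
      right_inv := fun v => rfl }
  · rw [SetLike.mem_coe, LinearMap.mem_ker, LinearMap.sub_apply, Module.End.one_apply, sub_eq_zero]
    exact congrArg Subtype.val v.2
  · have h2 := v.2.2
    rw [SetLike.mem_coe, LinearMap.mem_ker, LinearMap.sub_apply, Module.End.one_apply,
      sub_eq_zero] at h2
    exact Subtype.ext h2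

end fixedPoints

variable {t : ℕ} [ht : Fact t.Prime] {V : Type*} [AddCommGroup V] [Module (ZMod t) V] [Finite V]
  {m ℓ : ℕ}

theorem exists_card_submodule (hV : Nat.card V = t ^ m) (W : Submodule (ZMod t) V) :
    ∃ i ≤ m, Nat.card W = t ^ i ∧ (i = m → W = ⊤) ∧ (i = 0 → W = ⊥) := by
  haveI : Module.Finite (ZMod t) V := Module.Finite.of_finite
  have hm : finrank (ZMod t) V = m := by
    have h := Module.natCard_eq_pow_finrank (K := ZMod t) (V := V)
    rw [hV, Nat.card_zmod] at h
    exact (Nat.pow_right_injective ht.out.two_le h).symm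
  refine ⟨finrank (ZMod t) W, hm ▸ Submodule.finrank_le W, ?_, fun h => ?_, fun h => ?_⟩
  · rw [Module.natCard_eq_pow_finrank (K := ZMod t) (V := W), Nat.card_zmod]
  · exact Submodule.eq_top_of_finrank_eq (h.trans hm.symm)
  · exact Submodule.finrank_eq_zero.1 h

namespace Ppd

variable (hl : Ppd t m ℓ) (hV : Nat.card V = t ^ m) {a : Module.End (ZMod t) V} (ha : a ^ ℓ = 1)
  (ha1 : a ≠ 1)
include hl hV ha ha1

theorem ker_sub_one : LinearMap.ker (a - 1) = ⊥ := by
  haveI := Fact.mk hl.prime
  obtain ⟨f, hf, hc, htop, hbot⟩ := exists_card_submodule hV (LinearMap.ker (a - 1))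
  have h := card_modEq_fixed a (s := ℓ) (k := 1) (by rwa [pow_one]) (⊤ : Submodule (ZMod t) V)
    (fun _ _ => Submodule.mem_top)
  rw [top_inf_eq, hc, Nat.card_congr (Equiv.subtypeUnivEquiv fun _ => Submodule.mem_top), hV] at h
  have h1 : t ^ m ≡ 1 [MOD ℓ] :=
    ((Nat.modEq_iff_dvd' (Nat.one_le_pow _ _ ht.out.pos)).2 hl.dvd).symm
  rcases hl.exp_eq ht.out.pos hf (h.symm.trans h1) with h0 | h0
  · exact hbot h0
  · exact absurd (sub_eq_zero.1 (LinearMap.ker_eq_top.1 (htop h0))) ha1

/-- An element of primitive prime order is irreducible. -/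
theorem irr (W : Submodule (ZMod t) V) (hW : ∀ v ∈ W, a v ∈ W) : W = ⊥ ∨ W = ⊤ := by
  haveI := Fact.mk hl.prime
  obtain ⟨i, hi, hc, htop, hbot⟩ := exists_card_submodule hV W
  have h := card_modEq_fixed a (s := ℓ) (k := 1) (by rwa [pow_one]) W hW
  rw [hl.ker_sub_one hV ha ha1, inf_bot_eq, hc, Nat.card_unique] at h
  rcases hl.exp_eq ht.out.pos hi h with h0 | h0
  · exact Or.inl (hbot h0)
  · exact Or.inr (htop h0)

theorem sum_eq_zero : ∑ i ∈ Finset.range ℓ, a ^ i = 0 := by
  have h := mul_geom_sum a ℓ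
  rw [ha, sub_self] at h
  refine LinearMap.ext fun v => ?_
  have h2 : (∑ i ∈ Finset.range ℓ, a ^ i) v ∈ LinearMap.ker (a - 1) := by
    rw [LinearMap.mem_ker, ← Module.End.mul_apply, h]; rfl
  rwa [hl.ker_sub_one hV ha ha1, Submodule.mem_bot] at h2

theorem injective_or_zero {φ : Module.End (ZMod t) V} (hφ : Commute a φ) :
    φ = 0 ∨ Function.Injective φ := by
  rcases hl.irr hV ha ha1 (LinearMap.ker φ) (fun v hv => by
    rw [LinearMap.mem_ker] at hv ⊢
    rw [← Module.End.mul_apply, ← hφ.eq, Module.End.mul_apply, hv, map_zero]) with h | h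
  · exact Or.inr (LinearMap.ker_eq_bot.1 h)
  · exact Or.inl (LinearMap.ker_eq_top.1 h)

omit [Finite V] hl hV ha in
theorem nontrivial : Nontrivial V := by
  by_contra h
  rw [not_nontrivial_iff_subsingleton] at h
  exact ha1 (LinearMap.ext fun v => Subsingleton.elim _ _)

theorem centralizer_isDomain :
    IsDomain (Subring.centralizer ({a} : Set (Module.End (ZMod t) V))) := by
  haveI := nontrivial ha1
  haveI : NoZeroDivisors (Subring.centralizer ({a} : Set (Module.End (ZMod t) V))) := by
    refine ⟨fun {x y} hxy => ?_⟩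
    rcases hl.injective_or_zero hV ha ha1 (φ := x.1) ((Subring.mem_centralizer_iff.1 x.2 a rfl)) with
      h | h
    · exact Or.inl (Subtype.ext h)
    · refine Or.inr (Subtype.ext (LinearMap.ext fun v => h ?_))
      have := LinearMap.congr_fun (congrArg Subtype.val hxy) v
      simpa using this
  haveI : Nontrivial (Subring.centralizer ({a} : Set (Module.End (ZMod t) V))) :=
    ⟨0, 1, fun h => zero_ne_one (congrArg Subtype.val h)⟩
  exact NoZeroDivisors.to_isDomain _

/-- The commutant of an element of primitive prime order is commutative. -/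
theorem commute_of_commute {φ ψ : Module.End (ZMod t) V} (hφ : Commute a φ) (hψ : Commute a ψ) :
    Commute φ ψ := by
  haveI := hl.centralizer_isDomain hV ha ha1
  haveI : Finite (Module.End (ZMod t) V) := Finite.of_injective _ DFunLike.coe_injective
  have hfld := Finite.isDomain_to_isField (Subring.centralizer ({a} : Set (Module.End (ZMod t) V)))
  have := hfld.mul_comm ⟨φ, Subring.mem_centralizer_iff.2 fun g hg => by
      rw [Set.mem_singleton_iff.1 hg]; exact hφ⟩
    ⟨ψ, Subring.mem_centralizer_iff.2 fun g hg => by rw [Set.mem_singleton_iff.1 hg]; exact hψ⟩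
  exact congrArg Subtype.val this

theorem isCyclic_of_commute {B : Type*} [Group B] [Finite B] (f : B →* Module.End (ZMod t) V)
    (hf : Function.Injective f) (hc : ∀ b, Commute a (f b)) : IsCyclic B := by
  haveI hd := hl.centralizer_isDomain hV ha ha1
  letI : CommRing (Subring.centralizer ({a} : Set (Module.End (ZMod t) V))) :=
    { (inferInstance : Ring (Subring.centralizer ({a} : Set (Module.End (ZMod t) V)))) with
      mul_comm := fun x y => Subtype.ext (hl.commute_of_commute hV ha ha1
        (Subring.mem_centralizer_iff.1 x.2 a rfl) (Subring.mem_centralizer_iff.1 y.2 a rfl)) }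
  haveI : IsDomain (Subring.centralizer ({a} : Set (Module.End (ZMod t) V))) := hd
  let g : B →* Subring.centralizer ({a} : Set (Module.End (ZMod t) V)) :=
    { toFun := fun b => ⟨f b, Subring.mem_centralizer_iff.2 fun x hx => by
        rw [Set.mem_singleton_iff.1 hx]; exact hc b⟩
      map_one' := Subtype.ext (map_one f)
      map_mul' := fun x y => Subtype.ext (map_mul f x y) }
  exact isCyclic_of_injective_ringHom g fun x y h => hf (congrArg Subtype.val h)

end Ppd

variable {A : Type*} [Group A] [Finite A] (ρ : A →* Module.End (ZMod t) V)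

/-- An element of primitive prime order centralises every normal `s`-subgroup, unless `s = 2`. -/
theorem Ppd.commute_or_fermat (hl : Ppd t m ℓ) (hV : Nat.card V = t ^ m)
    (hρ : Function.Injective ρ) {a : A} (ha : orderOf a = ℓ) {s : ℕ} (hs : s.Prime)
    (N : Subgroup A) [hN : N.Normal] (hNs : IsPGroup s N) :
    (∀ g ∈ N, Commute a g) ∨
      (s = 2 ∧ t ≠ 2 ∧ (∃ j, ℓ = 2 ^ j + 1) ∧ ∃ x ∈ N, ∃ y ∈ N, ¬ Commute x y) := by
  haveI := Fact.mk hl.prime
  haveI := Fact.mk hs
  have hρa : ρ a ^ ℓ = 1 := by rw [← map_pow, ← ha, pow_orderOf_eq_one, map_one]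
  have hρa1 : ρ a ≠ 1 := fun h => hl.prime.ne_one (by
    rw [← ha, hρ (h.trans (map_one ρ).symm), orderOf_one])
  have hback : ∀ {g h : A}, Commute (ρ g) (ρ h) → Commute g h := fun h => hρ (by
    rw [map_mul, map_mul]; exact h.eq)
  by_cases hst : s = t
  · subst hst
    left
    -- the fixed space of a normal subgroup in the defining characteristic
    let W : Submodule (ZMod s) V := ⨅ n : N, LinearMap.ker (ρ (n : A) - 1)
    have hmem : ∀ v, v ∈ W ↔ ∀ n : N, ρ (n : A) v = v := fun v => by
      simp [W, sub_eq_zero]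
    have hWne : W ≠ ⊥ := by
      letI : MulAction N V :=
        { smul := fun n v => ρ (n : A) v
          one_smul := fun v => by show ρ ((1 : N) : A) v = v; rw [OneMemClass.coe_one, map_one]; rfl
          mul_smul := fun x y v => by
            show ρ ((x * y : N) : A) v = ρ (x : A) (ρ (y : A) v)
            rw [Subgroup.coe_mul, map_mul]; rfl }
      have hdvd : s ∣ Nat.card V := by
        haveI := Ppd.nontrivial hρa1
        rw [hV]
        refine dvd_pow_self s fun h0 => ?_
        have h1 := Finite.one_lt_card (α := V)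
        rw [hV, h0, pow_zero] at h1
        omega
      obtain ⟨v, hv, hv0⟩ := hNs.exists_fixed_point_of_prime_dvd_card_of_fixed_point V hdvd
        (a := 0) (fun n => map_zero (ρ (n : A)))
      intro h
      exact hv0 ((Submodule.mem_bot (R := ZMod s)).1 (h ▸ (hmem v).2 fun n => hv n)).symm
    have hWtop := (hl.irr hV hρa hρa1 W (fun v hv => (hmem _).2 fun n => by
      have hn := (hmem v).1 hv ⟨a⁻¹ * n * a, by simpa using hN.conj_mem n n.2 a⁻¹⟩
      conv_rhs => rw [← hn]
      rw [← Module.End.mul_apply, ← map_mul, ← Module.End.mul_apply, ← map_mul]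
      congr 2; group)).resolve_left hWne
    intro g hg
    have : g = 1 := hρ (LinearMap.ext fun v => by
      rw [map_one]; exact (hmem v).1 (hWtop ▸ Submodule.mem_top) ⟨g, hg⟩)
    exact this ▸ Commute.one_right a
  by_cases hsl : s = ℓ
  · subst hsl
    left
    intro g hg
    let Z := Subgroup.zpowers a
    have hZ : IsPGroup s Z := IsPGroup.of_card (n := 1) (by rw [Nat.card_zpowers, ha, pow_one])
    have hP : IsPGroup s (Z ⊔ N : Subgroup A) := hZ.to_sup_of_normal_right hNs
    haveI : Nontrivial (Z ⊔ N : Subgroup A) :=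
      ⟨⟨a, Subgroup.mem_sup_left (Subgroup.mem_zpowers a)⟩, 1, fun h => hρa1 (by
        have h' : a = 1 := congrArg Subtype.val h
        rw [h', map_one])⟩
    have hc := hP.center_nontrivial
    obtain ⟨k, hk⟩ := (hP.to_subgroup (Subgroup.center _)).exists_card_eq
    have hk0 : k ≠ 0 := fun h => by
      have := Finite.one_lt_card (α := Subgroup.center (Z ⊔ N : Subgroup A))
      rw [hk, h, pow_zero] at this
      exact lt_irrefl _ this
    obtain ⟨z, hz⟩ := exists_prime_orderOf_dvd_card' (G := Subgroup.center (Z ⊔ N : Subgroup A)) s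
      (hk ▸ dvd_pow_self s hk0)
    set z' : A := ((z : (Z ⊔ N : Subgroup A)) : A)
    have hz' : orderOf z' = s := by rw [Subgroup.orderOf_coe, Subgroup.orderOf_coe, hz]
    have hcomm : ∀ y ∈ (Z ⊔ N : Subgroup A), Commute (ρ z') (ρ y) := fun y hy =>
      (congrArg Subtype.val (Subgroup.mem_center_iff.1 z.2 ⟨y, hy⟩).symm : z' * y = y * z') |>
        fun h => (show Commute z' y from h).map ρ
    exact hback (hl.commute_of_commute hV
      (by rw [← map_pow, ← hz', pow_orderOf_eq_one, map_one])
      (fun h => hs.ne_one (by rw [← hz', hρ (h.trans (map_one ρ).symm), orderOf_one]))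
      (hcomm a (Subgroup.mem_sup_left (Subgroup.mem_zpowers a)))
      (hcomm g (Subgroup.mem_sup_right hg)))
  by_contra hnot
  rw [not_or] at hnot
  obtain ⟨hne, hno⟩ := hnot
  push Not at hne
  obtain ⟨g, hg, hga⟩ := hne
  have hℓt : (ℓ : ZMod t) ≠ 0 := by
    rw [Ne, ZMod.natCast_eq_zero_iff, Nat.prime_dvd_prime_iff_eq ht.out hl.prime]
    intro h
    subst h
    rcases Nat.eq_zero_or_pos m with hm | hm
    · subst hm
      haveI := Ppd.nontrivial hρa1
      have h1 := Finite.one_lt_card (α := V)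
      rw [hV, pow_zero] at h1
      omega
    · exact hl.not_dvd_base ht.out hm rfl
  have hst' : (s : ZMod t) ≠ 0 := by
    rw [Ne, ZMod.natCast_eq_zero_iff, Nat.prime_dvd_prime_iff_eq ht.out hs]
    exact Ne.symm hst
  obtain ⟨h2, hj, x, hx, y, hy, hxy⟩ := HallHigman.fermat_of_not_commute (ℓ := t) ρ N a
    (by rw [Subgroup.normalizer_eq_top N]; exact Subgroup.mem_top a) (r := ℓ)
    (by rw [← ha, pow_orderOf_eq_one]) hℓt (q := s) hsl hst' hNs
    (by simp only [map_pow]; exact hl.sum_eq_zero hV hρa hρa1)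
    ⟨g, hg, fun h => hga (hback h)⟩
  exact hno ⟨h2, fun h => hst (h2.trans h.symm), hj, x, hx, y, hy, fun h => hxy (h.map ρ)⟩

end Cfsg.Agent.ThreePrime
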